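import Mathlib

/-!
# The integer vectors behind the exceptional characters

`a i` and `b` are the vectors of multiplicities of the induced differences of linear characters,
`v` the values at the involution and `d` the degrees.
-/

set_option autoImplicit false

namespace Cfsg.Agent.Invol.BSW

open Finset

variable {ι J : Type*} [Fintype ι] [Fintype J]

/-- The numerical data. -/
structure Vecs (a : J → ι → ℤ) (b : ι → ℤ) (bar : J → J) (d : ι → ℕ) (v : ι → ℤ) (lam : J → ℤ)
    (th : ℤ) (C : ℚ) : Prop where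
  dpos : ∀ x, 0 < d x
  bar_ne : ∀ i, bar i ≠ i
  bar_bar : ∀ i, bar (bar i) = i
  jne : Nonempty J
  norm : ∀ i, ∑ x, a i x * a i x = 2
  barEq : ∀ i, ∑ x, a i x * a (bar i) x = 2
  one : ∀ i j, j ≠ i → j ≠ bar i → ∑ x, a i x * a j x = 1
  oneb : ∀ i, ∑ x, a i x * b x = 1
  normb : ∑ x, b x * b x = 3
  deg : ∀ i, ∑ x, a i x * d x = -1
  degb : ∑ x, b x * d x = -1
  tval : ∀ i, ∑ x, a i x * v x = 1 - 2 * lam i
  lam_bar : ∀ i, lam (bar i) = lam i
  lam_val : ∀ i, lam i = 1 ∨ lam i = -1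
  th_val : th = 1 ∨ th = -1
  lam_sum : ∑ i, lam i = -1 - th
  vsq : ∑ x, v x * v x ≤ 2 * (Fintype.card J : ℤ) + 3
  vrow : ∀ x, v x = -((∑ i, a i x * lam i) + b x * th)
  ratio : ∀ i, ∑ x, (a i x : ℚ) * (v x : ℚ) ^ 2 / d x = C
  ratiob : ∑ x, (b x : ℚ) * (v x : ℚ) ^ 2 / d x = C

theorem two_support {f : ι → ℤ} (h : ∑ x, f x * f x = 2) :
    ∃ x z, x ≠ z ∧ (f x = 1 ∨ f x = -1) ∧ (f z = 1 ∨ f z = -1) ∧ ∀ w, w ≠ x → w ≠ z → f w = 0 := by
  classical
  have hval : ∀ w, f w = 0 ∨ f w = 1 ∨ f w = -1 := fun w => by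
    have h1 := Finset.single_le_sum (f := fun x => f x * f x) (fun x _ => mul_self_nonneg _)
      (Finset.mem_univ w)
    rw [h] at h1
    have : -1 ≤ f w ∧ f w ≤ 1 := ⟨by nlinarith, by nlinarith⟩
    omega
  have hc : (Finset.univ.filter fun w => f w ≠ 0).card = 2 := by
    have : ∑ x, f x * f x = ∑ x, (if f x ≠ 0 then (1 : ℤ) else 0) :=
      Finset.sum_congr rfl fun w _ => by rcases hval w with e | e | e <;> simp [e]
    rw [this, Finset.sum_boole] at h
    exact_mod_cast h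
  obtain ⟨x, z, hxz, hs⟩ := Finset.card_eq_two.1 hc
  have hm : ∀ w, f w ≠ 0 ↔ w = x ∨ w = z := fun w => by
    have := congrArg (fun s => w ∈ s) hs
    simpa using this
  exact ⟨x, z, hxz, (hval x).resolve_left ((hm x).2 (Or.inl rfl)),
    (hval z).resolve_left ((hm z).2 (Or.inr rfl)),
    fun w h1 h2 => not_not.1 fun h0 => ((hm w).1 h0).elim h1 h2⟩

theorem sum_two {R : Type*} [CommRing R] [DecidableEq ι] {f : ι → R} {x z : ι} (hxz : x ≠ z)
    (h : ∀ w, w ≠ x → w ≠ z → f w = 0) : ∑ w, f w = f x + f z :=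
  Fintype.sum_eq_add x z hxz fun w hw => h w hw.1 hw.2

variable {a : J → ι → ℤ} {b : ι → ℤ} {bar : J → J} {d : ι → ℕ} {v : ι → ℤ} {lam : J → ℤ} {th : ℤ}
  {C : ℚ}

namespace Vecs

variable (V : Vecs a b bar d v lam th C)
include V

theorem bar_vec (i : J) : a (bar i) = a i := by
  have h : ∑ x, (a (bar i) x - a i x) * (a (bar i) x - a i x) = 0 := by
    have e : ∀ x, (a (bar i) x - a i x) * (a (bar i) x - a i x) =
        a (bar i) x * a (bar i) x - 2 * (a i x * a (bar i) x) + a i x * a i x := fun x => by ring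
    rw [Finset.sum_congr rfl fun x _ => e x, Finset.sum_add_distrib, Finset.sum_sub_distrib,
      ← Finset.mul_sum, V.norm, V.norm, V.barEq]
    norm_num
  funext x
  have := (Finset.sum_eq_zero_iff_of_nonneg fun x _ => mul_self_nonneg _).1 h x (Finset.mem_univ x)
  have := mul_self_eq_zero.1 this
  omega

theorem unit_mul {p q : ℤ} (hp : p = 1 ∨ p = -1) (hq : q = 1 ∨ q = -1) (h : p * q = 1) : q = p := by
  rcases hp with rfl | rfl <;> rcases hq with rfl | rfl <;> simp at h ⊢

/-- Two vectors of different pairs meet in one place, with the same sign. -/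
theorem meet {i j : J} (h1 : j ≠ i) (h2 : j ≠ bar i) {x z : ι} (hxz : x ≠ z)
    (hx : a i x = 1 ∨ a i x = -1) (hz : a i z = 1 ∨ a i z = -1)
    (hrest : ∀ w, w ≠ x → w ≠ z → a i w = 0) :
    (a j x = a i x ∧ a j z = 0) ∨ (a j x = 0 ∧ a j z = a i z) := by
  classical
  have h := V.one i j h1 h2
  rw [sum_two hxz fun w a b => by rw [hrest w a b, zero_mul]] at h
  obtain ⟨p, q, hpq, hp, hq, hr⟩ := two_support (V.norm j)
  have hval : ∀ w, a j w = 0 ∨ a j w = 1 ∨ a j w = -1 := fun w => by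
    rcases eq_or_ne w p with rfl | hp'
    · exact Or.inr hp
    rcases eq_or_ne w q with rfl | hq'
    · exact Or.inr hq
    exact Or.inl (hr w hp' hq')
  rcases hval x with e1 | e1 | e1 <;> rcases hval z with e2 | e2 | e2 <;>
    rcases hx with e3 | e3 <;> rcases hz with e4 | e4 <;> simp [e1, e2, e3, e4] at h ⊢

/-- A common place with value `1` at the involution. -/
theorem exists_centre :
    ∃ (x : ι) (e : ℤ), (e = 1 ∨ e = -1) ∧ (∀ i, a i x = e) ∧ e * v x = 1 := by
  classical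
  obtain ⟨i⟩ := V.jne
  obtain ⟨x₀, z₀, hxz₀, hx₀, hz₀, hr₀⟩ := two_support (V.norm i)
  by_cases hJ : ∀ l, l = i ∨ l = bar i
  · -- two indices
    have hcard : Fintype.card J = 2 := by
      rw [← Finset.card_univ, show (Finset.univ : Finset J) = {i, bar i} by
        ext l; simp [hJ l], Finset.card_pair (V.bar_ne i).symm]
    have hlam : lam i = -1 := by
      have h := V.lam_sum
      rw [show (Finset.univ : Finset J) = {i, bar i} by ext l; simp [hJ l],
        Finset.sum_pair (V.bar_ne i).symm, V.lam_bar] at h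
      rcases V.lam_val i with e | e <;> rcases V.th_val with e' | e' <;> omega
    have ht := V.tval i
    rw [sum_two hxz₀ fun w a b => by rw [hr₀ w a b, zero_mul], hlam] at ht
    have hsq : v x₀ * v x₀ + v z₀ * v z₀ ≤ 7 := by
      have h := V.vsq
      rw [hcard] at h
      have h1 := Finset.sum_le_sum_of_subset_of_nonneg (f := fun w => v w * v w)
        (Finset.subset_univ {x₀, z₀}) fun w _ _ => mul_self_nonneg _
      rw [Finset.sum_pair hxz₀] at h1
      norm_num at h
      linarith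
    have hall : ∀ w, a (bar i) w = a i w := fun w => by rw [V.bar_vec]
    have key : ∀ p q : ℤ, p + q = 3 → p * p + q * q ≤ 7 → p = 1 ∨ q = 1 := by
      intro p q h1 h2
      have hp1 : 1 ≤ p := by nlinarith
      have hp2 : p ≤ 2 := by nlinarith
      omega
    have h3 : a i x₀ * v x₀ + a i z₀ * v z₀ = 3 := by linarith
    have h7 : a i x₀ * v x₀ * (a i x₀ * v x₀) + a i z₀ * v z₀ * (a i z₀ * v z₀) ≤ 7 := by
      rcases hx₀ with e | e <;> rcases hz₀ with e' | e' <;> rw [e, e'] <;> linarith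
    rcases key _ _ h3 h7 with h | h
    · exact ⟨x₀, a i x₀, hx₀, fun l => by rcases hJ l with rfl | rfl <;> [rfl; rw [hall]], h⟩
    · exact ⟨z₀, a i z₀, hz₀, fun l => by rcases hJ l with rfl | rfl <;> [rfl; rw [hall]], h⟩
  push Not at hJ
  obtain ⟨j, hj1, hj2⟩ := hJ
  -- the common place of `i` and `j`
  obtain ⟨x, z, hxz, hx, hz, hr, hjx, hjz⟩ : ∃ x z, x ≠ z ∧ (a i x = 1 ∨ a i x = -1) ∧
      (a i z = 1 ∨ a i z = -1) ∧ (∀ w, w ≠ x → w ≠ z → a i w = 0) ∧ a j x = a i x ∧ a j z = 0 := by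
    rcases V.meet hj1 hj2 hxz₀ hx₀ hz₀ hr₀ with ⟨h, h'⟩ | ⟨h, h'⟩
    · exact ⟨x₀, z₀, hxz₀, hx₀, hz₀, hr₀, h, h'⟩
    · exact ⟨z₀, x₀, hxz₀.symm, hz₀, hx₀, fun w a b => hr₀ w b a, h', h⟩
  set e := a i x with he
  have hall : ∀ l, a l x = e := by
    intro l
    rcases eq_or_ne l i with rfl | hli
    · rfl
    rcases eq_or_ne l (bar i) with rfl | hlbi
    · rw [V.bar_vec]
    rcases V.meet hli hlbi hxz hx hz hr with ⟨h, -⟩ | ⟨hlx, hlz⟩
    · exact h
    exfalso
    rcases eq_or_ne l j with rfl | hlj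
    · rw [hjx] at hlx; rcases hx with e' | e' <;> omega
    rcases eq_or_ne l (bar j) with rfl | hlbj
    · rw [V.bar_vec, hjx] at hlx; rcases hx with e' | e' <;> omega
    obtain ⟨p, q, hpq, hp, hq, hrj⟩ := two_support (V.norm j)
    obtain ⟨z2, hz2, hz2v, hrj'⟩ : ∃ z2, z2 ≠ x ∧ (a j z2 = 1 ∨ a j z2 = -1) ∧
        ∀ w, w ≠ x → w ≠ z2 → a j w = 0 := by
      have hne : a j x ≠ 0 := by rw [hjx]; rcases hx with e' | e' <;> omega
      rcases eq_or_ne x p with rfl | hxp
      · exact ⟨q, hpq.symm, hq, hrj⟩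
      rcases eq_or_ne x q with rfl | hxq
      · exact ⟨p, hpq, hp, fun w a b => hrj w b a⟩
      exact absurd (hrj x hxp hxq) hne
    have hz2z : z2 ≠ z := fun h => by rw [h, hjz] at hz2v; omega
    have hjx' : a j x = 1 ∨ a j x = -1 := hjx.symm ▸ hx
    rcases V.meet hlj hlbj hz2.symm hjx' hz2v hrj' with ⟨h, -⟩ | ⟨-, hlz2⟩
    · rw [hlx, hjx] at h; rcases hx with e' | e' <;> omega
    obtain ⟨p', q', hp'q', -, -, hrl⟩ := two_support (V.norm l)
    have hl : ∀ w, w ≠ z → w ≠ z2 → a l w = 0 := by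
      intro w h1 h2
      by_contra h0
      have hm : ∀ u, a l u ≠ 0 → u = p' ∨ u = q' := fun u hu => by
        by_contra hc
        push Not at hc
        exact hu (hrl u hc.1 hc.2)
      rcases hm w h0 with h | h <;> rcases hm z (by rw [hlz]; rcases hz with e' | e' <;> omega) with
        h' | h' <;> rcases hm z2 (by rw [hlz2]; rcases hz2v with e' | e' <;> omega) with h'' | h'' <;>
        first
          | exact h1 (h.trans h'.symm)
          | exact h2 (h.trans h''.symm)
          | exact hz2z (h''.trans h'.symm)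
    have di := V.deg i
    have dj := V.deg j
    have dl := V.deg l
    rw [sum_two hxz fun w a b => by rw [hr w a b, zero_mul]] at di
    rw [sum_two hz2.symm fun w a b => by rw [hrj' w a b, zero_mul], hjx] at dj
    rw [sum_two (Ne.symm hz2z) fun w a b => by rw [hl w a b, zero_mul], hlz, hlz2] at dl
    have h2 : 2 * (e * (d x : ℤ)) = -1 := by linarith
    generalize e * (d x : ℤ) = P at h2
    omega
  refine ⟨x, e, hx, hall, ?_⟩
  -- the partners
  have hpart : ∀ l, ∃ z, z ≠ x ∧ (a l z = 1 ∨ a l z = -1) ∧ ∀ w, w ≠ x → w ≠ z → a l w = 0 := by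
    intro l
    obtain ⟨p, q, hpq, hp, hq, hrl⟩ := two_support (V.norm l)
    have hne : a l x ≠ 0 := by rw [hall]; rcases hx with e' | e' <;> omega
    rcases eq_or_ne x p with rfl | hxp
    · exact ⟨q, hpq.symm, hq, hrl⟩
    rcases eq_or_ne x q with rfl | hxq
    · exact ⟨p, hpq, hp, fun w a b => hrl w b a⟩
    exact absurd (hrl x hxp hxq) hne
  have heq : ∀ l, ((1 : ℚ) - 2 * lam l - e * v x) ^ 2 / (-1 - e * d x) =
      C - (e : ℚ) * (v x : ℚ) ^ 2 / d x := by
    intro l
    obtain ⟨zl, hzl, hzlv, hrl⟩ := hpart l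
    have hd := V.deg l
    have hv := V.tval l
    have hc := V.ratio l
    rw [sum_two hzl.symm fun w a b => by rw [hrl w a b, zero_mul], hall] at hd hv
    rw [sum_two hzl.symm fun w a b => by rw [hrl w a b, Int.cast_zero, zero_mul, zero_div],
      hall] at hc
    have hd' : (-1 - e * d x : ℚ) = a l zl * d zl := by
      have : (-1 - e * d x : ℤ) = a l zl * d zl := by linarith
      exact_mod_cast this
    have hv' : ((1 : ℚ) - 2 * lam l - e * v x) = a l zl * v zl := by
      have : (1 - 2 * lam l - e * v x : ℤ) = a l zl * v zl := by linarith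
      exact_mod_cast this
    rw [hd', hv', ← hc]
    have : (d zl : ℚ) ≠ 0 := Nat.cast_ne_zero.2 (V.dpos zl).ne'
    rcases hzlv with e' | e' <;> rw [e'] <;> push_cast <;> field_simp <;> ring
  have hsigns : (∃ l, lam l = 1) ∧ ∃ l, lam l = -1 := by
    have hbi : bar j ≠ bar i := fun h => hj1 (by
      have := congrArg bar h; rwa [V.bar_bar, V.bar_bar] at this)
    have hbji : bar j ≠ i := fun h => hj2 (by rw [← h, V.bar_bar])
    have hcard : 4 ≤ Fintype.card J := by
      rw [← Finset.card_univ]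
      refine le_trans (le_of_eq ?_) (Finset.card_le_card (Finset.subset_univ {i, bar i, j, bar j}))
      rw [Finset.card_insert_of_notMem, Finset.card_insert_of_notMem,
        Finset.card_pair (V.bar_ne j).symm] <;>
      simp [(V.bar_ne i).symm, Ne.symm hj1, Ne.symm hj2, Ne.symm hbi, Ne.symm hbji]
    have hs := V.lam_sum
    constructor <;> by_contra hno <;> push Not at hno
    · rw [Finset.sum_congr rfl fun l _ => (V.lam_val l).resolve_left (hno l), Finset.sum_const,
        Finset.card_univ] at hs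
      simp at hs
      rcases V.th_val with e' | e' <;> omega
    · rw [Finset.sum_congr rfl fun l _ => (V.lam_val l).resolve_right (hno l), Finset.sum_const,
        Finset.card_univ] at hs
      simp at hs
      rcases V.th_val with e' | e' <;> omega
  obtain ⟨⟨l, hl⟩, l', hl'⟩ := hsigns
  have h := (heq l).trans (heq l').symm
  rw [hl, hl'] at h
  obtain ⟨zl, hzl, hzlv, hrl⟩ := hpart l
  have hd := V.deg l
  rw [sum_two hzl.symm fun w a b => by rw [hrl w a b, zero_mul], hall] at hd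
  have hne : (-1 - e * d x : ℚ) ≠ 0 := by
    have h0 : (-1 - e * d x : ℤ) ≠ 0 := by
      have := V.dpos zl
      rcases hzlv with e' | e' <;> rw [e'] at hd <;> omega
    exact_mod_cast h0
  field_simp at h
  have h2 : ((e * v x : ℤ) : ℚ) = ((1 : ℤ) : ℚ) := by push_cast at h ⊢; nlinarith
  exact_mod_cast h2

/-- The squares of the values over the degrees. -/
theorem conclusion : ∃ (x : ι) (e m : ℤ), (e = 1 ∨ e = -1) ∧ m ≠ 0 ∧ m ≠ 1 ∧ e * d x = m - 1 ∧
    v x = e ∧ b x = e ∧ (∀ i, a i x = e) ∧ C = 1 / ((m : ℚ) - 1) - 4 / m ∧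
    ∀ w, (w = x → (v w : ℚ) ^ 2 / d w =
        e * (1 / ((m : ℚ) - 1) + 2 * (Fintype.card J + 1) / m) -
          2 / m * ((∑ i, (a i w : ℚ)) + b w)) ∧
      (w ≠ x → (v w : ℚ) ^ 2 / d w = -(2 / m * ((∑ i, (a i w : ℚ)) + b w))) := by
  classical
  obtain ⟨x, e, hev, hall, hu⟩ := V.exists_centre
  have hee : e * e = 1 := by rcases hev with rfl | rfl <;> rfl
  have hvx : v x = e := by
    calc v x = e * e * v x := by rw [hee, one_mul]
      _ = e := by rw [mul_assoc, hu, mul_one]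
  have hdx : (d x : ℚ) ≠ 0 := Nat.cast_ne_zero.2 (V.dpos x).ne'
  have hbx : b x = e := by
    have h := V.vrow x
    rw [hvx, Finset.sum_congr rfl fun i _ => by rw [hall i], ← Finset.mul_sum, V.lam_sum] at h
    rcases V.th_val with rfl | rfl <;> linarith
  set m : ℤ := 1 + e * d x with hm
  have hm1 : m ≠ 1 := by have := V.dpos x; rcases hev with rfl | rfl <;> omega
  have hpart : ∀ l, ∃ z, z ≠ x ∧ (a l z = 1 ∨ a l z = -1) ∧ ∀ w, w ≠ x → w ≠ z → a l w = 0 := by
    intro l
    obtain ⟨p, q, hpq, hp, hq, hrl⟩ := two_support (V.norm l)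
    have hne : a l x ≠ 0 := by rw [hall]; rcases hev with e' | e' <;> omega
    rcases eq_or_ne x p with rfl | hxp
    · exact ⟨q, hpq.symm, hq, hrl⟩
    rcases eq_or_ne x q with rfl | hxq
    · exact ⟨p, hpq, hp, fun w a b => hrl w b a⟩
    exact absurd (hrl x hxp hxq) hne
  choose z hzx hzv hzr using hpart
  have hdz : ∀ l, a l (z l) * d (z l) = -m := fun l => by
    have h := V.deg l
    rw [sum_two (hzx l).symm fun w a b => by rw [hzr l w a b, zero_mul], hall] at h
    rw [hm]; linarith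
  have hvz : ∀ l, v (z l) = a l (z l) * (-2 * lam l) := fun l => by
    have h := V.tval l
    rw [sum_two (hzx l).symm fun w a b => by rw [hzr l w a b, zero_mul], hall, hu] at h
    rcases hzv l with e' | e' <;> rw [e'] at h ⊢ <;> linarith
  obtain ⟨i₀⟩ := V.jne
  have hm0 : m ≠ 0 := by
    have h1 := hdz i₀
    have h2 := V.dpos (z i₀)
    rcases hzv i₀ with e' | e' <;> rw [e'] at h1 <;> omega
  have hzsep : ∀ l l', l' ≠ l → l' ≠ bar l → a l' (z l) = 0 := fun l l' h1 h2 => by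
    rcases V.meet h1 h2 (hzx l).symm (hall l ▸ hev) (hzv l) (hzr l) with ⟨-, h⟩ | ⟨h, -⟩
    · exact h
    · rw [hall] at h; rcases hev with e' | e' <;> omega
  have hsum_z : ∀ (l : J) (f : J → ℤ), f (bar l) = f l →
      ∑ i, a i (z l) * f i = 2 * (a l (z l) * f l) := fun l f hf => by
    rw [sum_two (V.bar_ne l).symm fun i h1 h2 => by rw [hzsep l i h1 h2, zero_mul], V.bar_vec, hf]
    ring
  have hbz : ∀ l, b (z l) = 0 := fun l => by
    have h := V.vrow (z l)
    rw [hsum_z l lam (V.lam_bar l), hvz] at h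
    rcases V.th_val with rfl | rfl <;> linarith
  have hC : C = 1 / ((m : ℚ) - 1) - 4 / m := by
    have h := V.ratio i₀
    rw [sum_two (hzx i₀).symm fun w a b => by rw [hzr i₀ w a b, Int.cast_zero, zero_mul, zero_div],
      hall, hvx, hvz] at h
    rw [← h]
    have hd2 : (d (z i₀) : ℚ) ≠ 0 := Nat.cast_ne_zero.2 (V.dpos _).ne'
    have hm' : (m : ℚ) = 1 + e * d x := by rw [hm]; push_cast; ring
    have hz' : (a i₀ (z i₀) : ℚ) * d (z i₀) = -(m : ℚ) := by exact_mod_cast hdz i₀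
    rw [show (m : ℚ) - 1 = e * d x by rw [hm']; ring]
    have h4 : (4 : ℚ) / m = -(4 / ((a i₀ (z i₀) : ℚ) * d (z i₀))) := by rw [hz', div_neg, neg_neg]
    rw [h4]
    rcases V.lam_val i₀ with el | el <;> rcases hzv i₀ with e' | e' <;> rcases hev with e'' | e'' <;>
      rw [el, e', e''] <;> push_cast <;> field_simp <;> ring
  -- the two places of `b`
  set W := Finset.univ.filter (fun w : ι => w ≠ x ∧ b w ≠ 0) with hW
  have hWsum : ∑ w ∈ W, b w * b w = 2 := by
    have h := V.normb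
    rw [← Finset.add_sum_erase _ _ (Finset.mem_univ x), hbx, hee] at h
    have h2 : ∑ w ∈ Finset.univ.erase x, b w * b w = ∑ w ∈ W, b w * b w := by
      symm
      refine Finset.sum_subset (fun w hw => Finset.mem_erase.2
        ⟨(Finset.mem_filter.1 hw).2.1, Finset.mem_univ _⟩) fun w hw hw' => ?_
      simp only [hW, Finset.mem_filter, Finset.mem_univ, true_and, not_and, not_not] at hw'
      rw [hw' (Finset.mem_erase.1 hw).1, zero_mul]
    rw [← h2]; linarith
  have hb1 : ∀ w, w ≠ x → b w = 0 ∨ b w = 1 ∨ b w = -1 := fun w hw => by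
    by_cases h0 : b w = 0
    · exact Or.inl h0
    have hwW : w ∈ W := Finset.mem_filter.2 ⟨Finset.mem_univ _, hw, h0⟩
    have h1 := Finset.single_le_sum (f := fun u => b u * b u) (fun u _ => mul_self_nonneg _) hwW
    rw [hWsum] at h1
    have : -1 ≤ b w ∧ b w ≤ 1 := ⟨by nlinarith, by nlinarith⟩
    omega
  obtain ⟨y₁, y₂, hy12, hyW⟩ : ∃ y₁ y₂, y₁ ≠ y₂ ∧ W = {y₁, y₂} := by
    refine Finset.card_eq_two.1 ?_
    have : ∑ w ∈ W, b w * b w = ∑ w ∈ W, (1 : ℤ) := Finset.sum_congr rfl fun w hw => by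
      obtain ⟨-, hw1, hw2⟩ := Finset.mem_filter.1 hw
      rcases (hb1 w hw1).resolve_left hw2 with e' | e' <;> rw [e'] <;> rfl
    rw [hWsum, Finset.sum_const, nsmul_one] at this
    exact_mod_cast this.symm
  have hbsupp : ∀ w, w ≠ x → w ≠ y₁ → w ≠ y₂ → b w = 0 := fun w h1 h2 h3 => by
    by_contra h0
    have hwW : w ∈ W := Finset.mem_filter.2 ⟨Finset.mem_univ _, h1, h0⟩
    rw [hyW] at hwW
    simp [h2, h3] at hwW
  obtain ⟨-, hy1x, hy1b⟩ := Finset.mem_filter.1 (show y₁ ∈ W by rw [hyW]; simp)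
  obtain ⟨-, hy2x, hy2b⟩ := Finset.mem_filter.1 (show y₂ ∈ W by rw [hyW]; simp)
  have hzero : ∀ w, w ≠ x → b w ≠ 0 → ∀ i, a i w = 0 := fun w hw hb i => by
    by_contra h
    rcases eq_or_ne w (z i) with rfl | hne
    · exact hb (hbz i)
    · exact h (hzr i w hw hne)
  have hvy : ∀ w, w ≠ x → b w ≠ 0 → v w = -(b w * th) := fun w hw hb => by
    rw [V.vrow w, Finset.sum_congr rfl fun i _ => by rw [hzero w hw hb i, zero_mul]]
    simp
  have three : ∀ (R : Type) [CommRing R] (f : ι → R),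
      (∀ w, w ≠ x → w ≠ y₁ → w ≠ y₂ → f w = 0) → ∑ w, f w = f x + (f y₁ + f y₂) := by
    intro R _ f hf
    rw [← Finset.sum_subset (Finset.subset_univ {x, y₁, y₂}) fun w _ hw => by
      simp only [Finset.mem_insert, Finset.mem_singleton, not_or] at hw
      exact hf w hw.1 hw.2.1 hw.2.2,
      Finset.sum_insert (by simp [Ne.symm hy1x, Ne.symm hy2x]), Finset.sum_pair hy12]
  have hBd : ∀ w, w ≠ x → b w ≠ 0 → (b w : ℚ) * (v w : ℚ) ^ 2 / d w = 1 / ((b w : ℚ) * d w) := by
    intro w hw hb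
    have hd' : (d w : ℚ) ≠ 0 := Nat.cast_ne_zero.2 (V.dpos w).ne'
    rw [hvy w hw hb]
    rcases (hb1 w hw).resolve_left hb with e' | e' <;> rcases V.th_val with e'' | e'' <;>
      rw [e', e''] <;> push_cast <;> field_simp <;> ring
  have hne0 : ∀ w, b w ≠ 0 → (b w : ℚ) * d w ≠ 0 := fun w hb =>
    mul_ne_zero (Int.cast_ne_zero.2 hb) (Nat.cast_ne_zero.2 (V.dpos w).ne')
  have hm0' : (m : ℚ) ≠ 0 := Int.cast_ne_zero.2 hm0
  have hm1' : (m : ℚ) - 1 ≠ 0 := sub_ne_zero.2 (by exact_mod_cast hm1)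
  have hhalf : (b y₁ : ℚ) * d y₁ = -(m : ℚ) / 2 ∧ (b y₂ : ℚ) * d y₂ = -(m : ℚ) / 2 := by
    have hdeg := V.degb
    rw [three ℤ _ fun w h1 h2 h3 => by rw [hbsupp w h1 h2 h3, zero_mul], hbx] at hdeg
    have hs : (b y₁ : ℚ) * d y₁ + (b y₂ : ℚ) * d y₂ = -(m : ℚ) := by
      have : b y₁ * d y₁ + b y₂ * d y₂ = -m := by rw [hm]; linarith
      exact_mod_cast this
    have hr := V.ratiob
    rw [three ℚ _ fun w h1 h2 h3 => by rw [hbsupp w h1 h2 h3, Int.cast_zero, zero_mul, zero_div],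
      hbx, hvx, hBd y₁ hy1x hy1b, hBd y₂ hy2x hy2b, hC] at hr
    have hx' : (e : ℚ) * (e : ℚ) ^ 2 / d x = 1 / ((m : ℚ) - 1) := by
      rw [hm]; push_cast
      rw [add_sub_cancel_left]
      rcases hev with e' | e' <;> rw [e'] <;> push_cast <;> field_simp <;> ring
    rw [hx'] at hr
    generalize (b y₁ : ℚ) * d y₁ = P at hs hr ⊢
    generalize hQ : (b y₂ : ℚ) * d y₂ = Q at hs hr ⊢
    have hP : P ≠ 0 := fun h => by
      rw [h, zero_add] at hs
      rw [h, hs, div_zero, zero_add] at hr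
      have h9 : (3 : ℚ) / m = 0 := by ring_nf at hr ⊢; linarith
      simp [hm0'] at h9
    have hQ0 : Q ≠ 0 := hQ ▸ hne0 y₂ hy2b
    have h4 : 1 / P + 1 / Q = -4 / (m : ℚ) := by
      rw [neg_div]; linarith
    field_simp at h4
    have hsq : (P - Q) ^ 2 = 0 := by
      have hQ' : Q = -(m : ℚ) - P := by linarith
      rw [hQ'] at h4 ⊢
      nlinarith
    have := pow_eq_zero_iff (n := 2) (by norm_num) |>.1 hsq
    constructor <;> linarith
  refine ⟨x, e, m, hev, hm0, hm1, by rw [hm]; ring, hvx, hbx, hall, hC, fun w => ⟨?_, fun hw => ?_⟩⟩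
  · rintro rfl
    have hs : ∑ i, (a i w : ℚ) = Fintype.card J * (e : ℚ) := by
      rw [Finset.sum_congr rfl fun i _ => by rw [hall i], Finset.sum_const, Finset.card_univ,
        nsmul_eq_mul]
    rw [hs, hvx, hbx]
    have h1 : (m : ℚ) - 1 = e * d w := by rw [hm]; push_cast; ring
    rw [h1]
    rcases hev with e' | e' <;> rw [e'] <;> push_cast <;> field_simp <;> ring
  · have hdw : (d w : ℚ) ≠ 0 := Nat.cast_ne_zero.2 (V.dpos w).ne'
    by_cases hzw : ∃ l, z l = w
    · obtain ⟨l, rfl⟩ := hzw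
      have hs : ∑ i, a i (z l) = 2 * a l (z l) := by
        simpa using hsum_z l (fun _ => 1) rfl
      have hs' : ∑ i, (a i (z l) : ℚ) = 2 * (a l (z l) : ℚ) := by exact_mod_cast hs
      have hz' : (m : ℚ) = -((a l (z l) : ℚ) * d (z l)) := by
        have : m = -(a l (z l) * d (z l)) := by have := hdz l; omega
        exact_mod_cast this
      rw [hs', hbz, hvz, hz']
      rcases V.lam_val l with el | el <;> rcases hzv l with e' | e' <;>
        rw [el, e'] <;> push_cast <;> field_simp <;> ring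
    push Not at hzw
    have ha : ∀ i, a i w = 0 := fun i => hzr i w hw (Ne.symm (hzw i))
    have hs : ∑ i, (a i w : ℚ) = 0 := Finset.sum_eq_zero fun i _ => by rw [ha i]; simp
    rw [hs, zero_add]
    by_cases hb : b w = 0
    · have hv : v w = 0 := by
        rw [V.vrow w, hb, Finset.sum_eq_zero fun i _ => by rw [ha i, zero_mul]]; ring
      rw [hv, hb]; simp
    have hy : w = y₁ ∨ w = y₂ := by
      by_contra hc
      push Not at hc
      exact hb (hbsupp w hw hc.1 hc.2)
    have hh : (m : ℚ) = -2 * ((b w : ℚ) * d w) := by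
      rcases hy with rfl | rfl
      · rw [hhalf.1]; ring
      · rw [hhalf.2]; ring
    rw [hvy w hw hb, hh]
    rcases (hb1 w hw).resolve_left hb with e' | e' <;> rcases V.th_val with e'' | e'' <;>
      rw [e', e''] <;> push_cast <;> field_simp <;> ring

end Vecs

end Cfsg.Agent.Invol.BSW
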