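import Cfsg.Agent.Lib.Invol.BSW.Count
import Cfsg.Agent.Lib.Invol.BSW.Comb
import Cfsg.Agent.Lib.Char.Constituent
import Cfsg.Agent.Lib.Char.Integral
import Cfsg.Agent.Lib.Char.DihBlockInvolution
import Cfsg.Agent.Lib.Grp.GenDihedralTI

/-!
# The exceptional characters of the Brauer-Suzuki-Wall configuration
-/

set_option autoImplicit false

open scoped ComplexConjugate

namespace Cfsg.Agent.Invol.BSW

open Cfsg Cfsg.Agent.Char

universe u

variable {G : Type u} [Group G] [Finite G] {t s : G} {K : Subgroup G}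

theorem card_sq_eq_one (D : Hyp t s K) :
    Nat.card {l : K →* ℂˣ // l * l = 1} = 2 ∧ Nat.card (K →* ℂˣ) = Nat.card K := by
  letI : CommGroup K :=
    { (inferInstance : Group K) with mul_comm := fun a b => Subtype.ext (D.comm a a.2 b b.2) }
  obtain ⟨φ⟩ := CommGroup.monoidHom_mulEquiv_of_hasEnoughRootsOfUnity K ℂ
  refine ⟨?_, Nat.card_congr φ.toEquiv⟩
  rw [Nat.card_congr (φ.toEquiv.subtypeEquiv (q := fun x : K => x * x = 1) fun l => by
    rw [MulEquiv.toEquiv_eq_coe, EquivLike.coe_coe, ← map_mul]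
    exact φ.map_eq_one_iff.symm)]
  refine Nat.card_eq_two_iff.2 ⟨⟨1, one_mul 1⟩, ⟨⟨t, D.tK⟩, Subtype.ext D.tt⟩, fun e => D.t_ne ?_,
    ?_⟩
  · exact (congrArg (fun x => ((x.1 : K) : G)) e).symm
  · refine Set.eq_univ_of_forall fun x => ?_
    obtain ⟨⟨x, hx⟩, hxx⟩ := x
    by_cases h1 : x = 1
    · exact Or.inl (Subtype.ext (Subtype.ext h1))
    · exact Or.inr (Subtype.ext (Subtype.ext
        (D.two_eq hx (orderOf_two_iff.2 ⟨congrArg Subtype.val hxx, h1⟩))))

theorem linear_conj (l : K →* ℂˣ) (h : K) : conj (l h : ℂ) = ((l⁻¹ : K →* ℂˣ) h : ℂ) := by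
  rw [MonoidHom.inv_apply, ← map_inv]
  exact (IsIrr.apply_inv (isIrr_linear l) h).symm

/-- Expansions on the abelian group `K`. -/
theorem expand_K (D : Hyp t s K) [Fintype K] [Fintype (K →* ℂˣ)] {f : K → ℂ} (h : K) :
    f h = ∑ l : K →* ℂˣ, classInner f (fun x => (l x : ℂ)) * (l h : ℂ) := by
  classical
  have hcom : ∀ a b : K, a * b = b * a := fun a b => Subtype.ext (D.comm a a.2 b b.2)
  have hf : IsClassFunction K f := fun a b => by rw [hcom b a, mul_inv_cancel_right]
  let E : (K →* ℂˣ) → IrrCharacter K := fun l => ⟨_, isIrr_linear l⟩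
  have hE : Function.Bijective E := by
    refine ⟨fun l m h => MonoidHom.ext fun x => Units.ext (congrFun (congrArg Subtype.val h) x),
      fun χ => ?_⟩
    obtain ⟨l, hl⟩ := linearHom_of_isCharacter (IsIrr.isCharacter χ.2) (IsIrr.one_of_comm hcom χ.2)
    exact ⟨l, Subtype.ext (funext fun x => by simp [E, hl])⟩
  have h1 := congrFun (classFunction_expansion hf) h
  rw [Finset.sum_apply] at h1
  rw [h1]
  exact (Fintype.sum_bijective E hE _ _ fun l => by simp [E]).symm

theorem sum_linear_apply (D : Hyp t s K) [Fintype K] [Fintype (K →* ℂˣ)] {h : K} (hh : h ≠ 1) :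
    ∑ l : K →* ℂˣ, (l h : ℂ) = 0 := by
  classical
  have h1 := expand_K D (f := fun x => if x = 1 then (Nat.card K : ℂ) else 0) h
  simp only [if_neg hh] at h1
  rw [h1]
  refine Finset.sum_congr rfl fun l _ => ?_
  have e : classInner (fun x : K => if x = 1 then (Nat.card K : ℂ) else 0) (fun x => (l x : ℂ)) = 1 := by
    rw [classInner, Finset.sum_eq_single 1]
    · simp [Nat.card_pos.ne']
    · intro b _ hb; simp [hb]
    · simp
  rw [e, one_mul]

/-- Values on `K` of functions induced from `K`. -/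
theorem ind_apply [Fintype G] (D : Hyp t s K) (f : K → ℂ) {h : K} (h1 : h ≠ 1) :
    indFun K f (h : G) = f h + f h⁻¹ := by
  classical
  haveI := Fintype.ofFinite K
  have hval : ∀ x : G, extendByZero K f (x⁻¹ * h * x) =
      (if x ∈ K then f h else 0) + (if x * t = t * x ∧ x ∉ K then f h⁻¹ else 0) := by
    intro x
    by_cases hxK : x ∈ K
    · have : x⁻¹ * (h : G) * x = h := by
        rw [mul_assoc, D.comm _ h.2 _ hxK, inv_mul_cancel_left]
      rw [this, extendByZero_apply]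
      simp [hxK]
    by_cases hxt : x * t = t * x
    · have : x⁻¹ * (h : G) * x = ((h⁻¹ : K) : G) := by
        have e := D.comm_outside hxt hxK h.2
        have hi : x⁻¹ = x := inv_self_of_two (D.two_of_outside hxt hxK)
        rw [hi] at e ⊢
        simpa using e
      rw [this, extendByZero_apply]
      simp [hxK, hxt]
    · rw [extendByZero_not_mem f]
      · simp [hxK, hxt]
      · intro hm
        have h2 := D.ti x⁻¹ h h.2 (by simpa using hm) (fun e => h1 (Subtype.ext e))
        exact hxt (by simpa using (Commute.inv_left (show Commute x⁻¹ t from h2)).eq)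
  simp only [indFun, hval, Finset.sum_add_distrib, ← Finset.sum_filter, Finset.sum_const,
    nsmul_eq_mul]
  have hA : (Finset.univ.filter fun x : G => x ∈ K).card = Nat.card K := by
    rw [Nat.card_eq_fintype_card, ← Fintype.card_subtype]
  have hH : (Finset.univ.filter fun x : G => x * t = t * x).card = 2 * Nat.card K := by
    rw [← D.card_centralizer, Nat.card_eq_fintype_card, ← Fintype.card_subtype]
    exact Fintype.card_congr (Equiv.subtypeEquivRight fun x => Subgroup.mem_centralizer_singleton_iff.symm)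
  have hB : (Finset.univ.filter fun x : G => x * t = t * x ∧ x ∉ K).card = Nat.card K := by
    have h2 := Finset.card_filter_add_card_filter_not
      (s := Finset.univ.filter fun x : G => x * t = t * x) (fun x => x ∈ K)
    rw [Finset.filter_filter, Finset.filter_filter, hH] at h2
    have h3 : (Finset.univ.filter fun x : G => x * t = t * x ∧ x ∈ K) =
        Finset.univ.filter fun x : G => x ∈ K := by
      ext x; simpa using D.KC x
    rw [h3, hA] at h2
    omega
  rw [hA, hB]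
  have : (Nat.card K : ℂ) ≠ 0 := Nat.cast_ne_zero.2 Nat.card_pos.ne'
  field_simp

theorem linear_t (D : Hyp t s K) (l : K →* ℂˣ) :
    ∃ z : ℤ, (z = 1 ∨ z = -1) ∧ (l ⟨t, D.tK⟩ : ℂ) = z := by
  have h : (l ⟨t, D.tK⟩ : ℂ) * (l ⟨t, D.tK⟩ : ℂ) = 1 := by
    rw [← Units.val_mul, ← map_mul, show (⟨t, D.tK⟩ : K) * ⟨t, D.tK⟩ = 1 from Subtype.ext D.tt,
      map_one, Units.val_one]
  rcases mul_self_eq_one_iff.1 h with h | h
  · exact ⟨1, Or.inl rfl, by rw [h, Int.cast_one]⟩
  · exact ⟨-1, Or.inr rfl, by rw [h]; norm_num⟩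

theorem cast_ratio {ι : Type*} [Fintype ι] (a v : ι → ℤ) (d : ι → ℕ) :
    ((∑ x, (a x : ℚ) * (v x : ℚ) ^ 2 / d x : ℚ) : ℂ) = ∑ x, (a x : ℂ) * ((v x : ℂ) ^ 2 / d x) := by
  push_cast
  exact Finset.sum_congr rfl fun x _ => by rw [mul_div_assoc]

/-- Values on `K` of a function from the multiplicities. -/
theorem row_K (D : Hyp t s K) [Fintype K] [Fintype (K →* ℂˣ)] (R : K → ℂ)
    (a : (K →* ℂˣ) → ℤ) (ha : ∀ l : K →* ℂˣ, classInner (fun x => 1 - (l x : ℂ)) R = a l)
    {h : K} (hh : h ≠ 1) : R h = -∑ l : K →* ℂˣ, (a l : ℂ) * (l h : ℂ) := by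
  classical
  have h2 : ∀ l : K →* ℂˣ, classInner R (fun x => (l x : ℂ)) =
      classInner R (fun _ => (1 : ℂ)) - (a l : ℂ) := by
    intro l
    have e : classInner R (fun x => 1 - (l x : ℂ)) = (a l : ℂ) := by
      rw [← classInner_conj_symm (fun x => 1 - (l x : ℂ)) R, ha l, map_intCast]
    have e' := classInner_sub_right R (fun _ => (1 : ℂ)) (fun x => (l x : ℂ))
    have e'' : ((fun _ => (1 : ℂ)) - fun x : K => (l x : ℂ)) = fun x : K => 1 - (l x : ℂ) := rfl
    rw [e'', e] at e'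
    rw [e', sub_sub_cancel]
  have h1 := expand_K D (f := R) h
  rw [Finset.sum_congr rfl fun l _ => by rw [h2 l, sub_mul], Finset.sum_sub_distrib, ← Finset.mul_sum,
    sum_linear_apply D hh, mul_zero, zero_sub] at h1
  exact h1

open scoped Classical in
/-- Inner products of the induced differences. -/
theorem gram_K [Fintype G] (D : Hyp t s K) [Fintype K] {l m : K →* ℂˣ} (hl : l ≠ 1) (hm : m ≠ 1) :
    classInner (indFun K fun x => 1 - (l x : ℂ)) (indFun K fun x => 1 - (m x : ℂ)) =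
      2 + (if l = m then 1 else 0) + (if l * m = 1 then 1 else 0) := by
  letI : CommGroup (K →* ℂˣ) := MonoidHom.instCommGroup
  rw [classInner_indFun K _ (indFun_classFun K _), classInner]
  have hterm : ∀ h : K, (1 - (l h : ℂ)) * conj (indFun K (fun x => 1 - (m x : ℂ)) (h : G)) =
      2 - 2 * (l h : ℂ) - (m⁻¹ h : ℂ) - (m h : ℂ) + ((l * m⁻¹) h : ℂ) + ((l * m) h : ℂ) := by
    intro h
    by_cases hh : h = 1
    · subst hh; simp
    · rw [ind_apply D _ hh]
      simp only [map_add, map_sub, map_one, linear_conj, MonoidHom.mul_apply, Units.val_mul]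
      have : ((m⁻¹ : K →* ℂˣ) h⁻¹ : ℂ) = (m h : ℂ) := by simp
      rw [this]; ring
  rw [Finset.sum_congr rfl fun h _ => hterm h]
  simp only [Finset.sum_add_distrib, Finset.sum_sub_distrib, ← Finset.mul_sum]
  have hk0 : (Nat.card K : ℂ) ≠ 0 := Nat.cast_ne_zero.2 Nat.card_pos.ne'
  have hs : ∀ p : K →* ℂˣ, ∑ h : K, (p h : ℂ) = if p = 1 then (Nat.card K : ℂ) else 0 := fun p => by
    split_ifs with e
    · subst e; simp [Nat.card_eq_fintype_card]
    · exact linear_sum p e
  rw [hs, hs, hs, hs, hs, if_neg hl, if_neg (inv_ne_one.2 hm), if_neg hm,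
    Finset.sum_const, Finset.card_univ, ← Nat.card_eq_fintype_card, nsmul_eq_mul]
  simp only [mul_inv_eq_one]
  split_ifs <;> field_simp <;> ring

set_option maxHeartbeats 1000000 in
/-- The order and the numbers of factorisations into two involutions. -/
theorem Hyp.char_result (D : Hyp t s K) (hk : 4 ≤ Nat.card K) :
    ((Subgroup.centralizer ({t} : Set G)).index = (Nat.card K + 1) * (2 * Nat.card K + 1) ∧
      ∀ y : G, y ≠ 1 → ¬ ConjK K y → 0 < F y ∧ ∃ c, F y = 1 + Nat.card K * c) ∨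
    ((Subgroup.centralizer ({t} : Set G)).index = (Nat.card K - 1) * (2 * Nat.card K - 1) ∧
      ∀ y : G, y ≠ 1 → ¬ ConjK K y → (Nat.card K - 1) ∣ F y) := by
  classical
  letI : CommGroup (K →* ℂˣ) := MonoidHom.instCommGroup
  haveI := Fintype.ofFinite G
  haveI := Fintype.ofFinite K
  obtain ⟨htwo, hcardL⟩ := card_sq_eq_one D
  haveI : Finite (K →* ℂˣ) := Nat.finite_of_card_ne_zero (by rw [hcardL]; exact Nat.card_pos.ne')
  haveI := Fintype.ofFinite (K →* ℂˣ)
  set k := Nat.card K with hkdef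
  set n := (Subgroup.centralizer ({t} : Set G)).index with hndef
  have hgn : Nat.card G = 2 * k * n := D.card_eq
  have hk0 : (k : ℂ) ≠ 0 := Nat.cast_ne_zero.2 (by omega)
  have hn0 : n ≠ 0 := Subgroup.index_ne_zero_of_finite
  -- the quadratic linear character
  obtain ⟨θ, hθ1, hθ⟩ : ∃ θ : K →* ℂˣ, θ ≠ 1 ∧ ∀ l : K →* ℂˣ, l * l = 1 ↔ l = 1 ∨ l = θ := by
    obtain ⟨⟨θ, hθ⟩, hne, huniq⟩ :=
      (Nat.card_eq_two_iff' (⟨1, one_mul 1⟩ : {l : K →* ℂˣ // l * l = 1})).1 htwo
    refine ⟨θ, fun e => hne (Subtype.ext e), fun l => ⟨fun hl => ?_, ?_⟩⟩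
    · by_cases h1 : l = 1
      · exact Or.inl h1
      · exact Or.inr (congrArg Subtype.val (huniq ⟨l, hl⟩ fun e => h1 (congrArg Subtype.val e)))
    · rintro (rfl | rfl)
      · exact one_mul 1
      · exact hθ
  let J := {l : K →* ℂˣ // l * l ≠ 1}
  have hsplit : ∀ f : (K →* ℂˣ) → ℂ, ∑ l, f l = f 1 + f θ + ∑ i : J, f i.1 := by
    intro f
    rw [← Finset.sum_add_sum_compl ({1, θ} : Finset (K →* ℂˣ)) f, Finset.sum_pair hθ1.symm]
    congr 1
    refine Finset.sum_subtype _ (fun l => ?_) f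
    rw [Finset.mem_compl, Finset.mem_insert, Finset.mem_singleton, Ne, hθ]
  have hJcard : Fintype.card J + 2 = k := by
    have h := hsplit fun _ => 1
    simp only [Finset.sum_const, Finset.card_univ, nsmul_eq_mul, mul_one] at h
    rw [← Nat.card_eq_fintype_card (α := K →* ℂˣ), hcardL] at h
    have : ((k : ℕ) : ℂ) = ((Fintype.card J + 2 : ℕ) : ℂ) := by rw [h]; push_cast; ring
    exact_mod_cast this.symm
  have hJne : ∀ i : J, i.1 ≠ 1 := fun i e => i.2 (by rw [e, one_mul])
  let bar : J → J := fun i => ⟨i.1⁻¹, fun h => i.2 (by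
    have := congrArg Inv.inv h; simpa [mul_inv_rev] using this)⟩
  have hθinv : θ⁻¹ = θ := inv_eq_of_mul_eq_one_right ((hθ θ).2 (Or.inr rfl))
  -- the irreducible characters
  let one : IrrCharacter G := ⟨_, isIrr_one⟩
  let fl : (K →* ℂˣ) → K → ℂ := fun l x => 1 - (l x : ℂ)
  let Ψ : (K →* ℂˣ) → G → ℂ := fun l => indFun K (fl l)
  have hflgen : ∀ l, IsGeneralizedCharacter K (fl l) := fun l =>
    IsGenChar.sub (IsGenChar.of_isCharacter IsChar.one)
      (IsGenChar.of_isCharacter (IsIrr.isCharacter (isIrr_linear l)))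
  choose aa haa hexp using fun l => IsGenChar.exists_decomp (IsGenChar.ind K (hflgen l))
  have haK : ∀ l (χ : IrrCharacter G), classInner (fl l) (fun x : K => (χ : G → ℂ) x) = aa l χ :=
    fun l χ => by rw [← haa, classInner_indFun K _ (IsIrr.classFun χ.2)]
  have hΨy : ∀ l (y : G), indFun K (fl l) y = ∑ χ : IrrCharacter G, (aa l χ : ℂ) * (χ : G → ℂ) y :=
    fun l y => by rw [hexp l]; simp [Finset.sum_apply]
  -- values on `K`
  have hrow : ∀ (χ : IrrCharacter G) (h : K), h ≠ 1 →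
      (χ : G → ℂ) h = -∑ l : K →* ℂˣ, (aa l χ : ℂ) * (l h : ℂ) := fun χ h hh =>
    row_K D (fun x : K => (χ : G → ℂ) x) (fun l => aa l χ) (fun l => haK l χ) hh
  have haa1 : ∀ χ, aa 1 χ = 0 := by
    intro χ
    have h : classInner (fl 1) (fun x : K => (χ : G → ℂ) x) = 0 := by simp [fl, classInner]
    rw [haK] at h
    exact_mod_cast h
  have hone : ∀ l, l ≠ 1 → aa l one = 1 := by
    intro l hl
    have h : classInner (fl l) (fun x : K => (one : G → ℂ) x) = 1 := by
      simp only [fl, one, classInner, map_one, mul_one, Finset.sum_sub_distrib,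
        linear_sum l hl, sub_zero, Finset.sum_const, Finset.card_univ, nsmul_eq_mul]
      rw [← Nat.card_eq_fintype_card, inv_mul_cancel₀ hk0]
    rw [haK] at h
    exact_mod_cast h
  -- the Gram matrix
  have hgram : ∀ l m, l ≠ 1 → m ≠ 1 → ∑ χ : IrrCharacter G, aa l χ * aa m χ =
      2 + (if l = m then 1 else 0) + (if l * m = 1 then 1 else 0) := by
    intro l m hl hm
    have h1 : classInner (indFun K (fl l)) (indFun K (fl m)) =
        ∑ χ : IrrCharacter G, (aa l χ : ℂ) * (aa m χ : ℂ) := by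
      conv_lhs => rw [hexp l, hexp m]
      rw [classInner_sum_sum]
      exact Finset.sum_congr rfl fun χ _ => by rw [map_intCast]
    have h2 : classInner (indFun K (fl l)) (indFun K (fl m)) =
        2 + (if l = m then 1 else 0) + (if l * m = 1 then 1 else 0) := gram_K D hl hm
    rw [h1] at h2
    have : ((∑ χ : IrrCharacter G, aa l χ * aa m χ : ℤ) : ℂ) =
        ((2 + (if l = m then 1 else 0) + (if l * m = 1 then 1 else 0) : ℤ) : ℂ) := by
      push_cast; exact h2
    exact_mod_cast this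
  -- values at `t` and degrees
  choose vv hvv using fun χ : IrrCharacter G => Grp.GenDihedral.int_value χ.2 D.tt
  choose dd hdd0 hdd using fun χ : IrrCharacter G => IsIrr.one_eq_pos χ.2
  have htK1 : (⟨t, D.tK⟩ : K) ≠ 1 := fun e => D.t_ne (congrArg Subtype.val e)
  choose lt hlt hlt' using fun l : K →* ℂˣ => linear_t D l
  have hdeg : ∀ l, ∑ χ : IrrCharacter G, aa l χ * dd χ = 0 := by
    intro l
    have h := hΨy l 1
    rw [indFun_one_eq] at h
    simp only [hdd] at h
    have h0 : fl l 1 = 0 := by simp [fl]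
    rw [h0, mul_zero] at h
    have : ((∑ χ : IrrCharacter G, aa l χ * dd χ : ℤ) : ℂ) = 0 := by push_cast; exact h.symm
    exact_mod_cast this
  have htval : ∀ l, ∑ χ : IrrCharacter G, aa l χ * vv χ = 2 - 2 * lt l := by
    intro l
    have h := hΨy l t
    simp only [hvv] at h
    rw [show t = ((⟨t, D.tK⟩ : K) : G) from rfl, ind_apply D _ htK1] at h
    have e : (⟨t, D.tK⟩ : K)⁻¹ = ⟨t, D.tK⟩ := Subtype.ext (inv_self_of_two D.ot)
    rw [e] at h
    simp only [fl, hlt'] at h
    have : ((∑ χ : IrrCharacter G, aa l χ * vv χ : ℤ) : ℂ) = ((2 - 2 * lt l : ℤ) : ℂ) := by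
      push_cast; rw [← h]; ring
    exact_mod_cast this
  have hvsq : ∑ χ : IrrCharacter G, vv χ * vv χ = 2 * k := by
    have h := sum_irr_mul_conj t t
    rw [if_pos (IsConj.refl t), D.card_centralizer, ← hkdef] at h
    simp only [hvv, map_intCast] at h
    have : ((∑ χ : IrrCharacter G, vv χ * vv χ : ℤ) : ℂ) = ((2 * k : ℤ) : ℂ) := by
      push_cast at h ⊢; exact h
    exact_mod_cast this
  have hvrow : ∀ χ, vv χ = -((∑ i : J, aa i.1 χ * lt i.1) + aa θ χ * lt θ) := by
    intro χ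
    have h := hrow χ ⟨t, D.tK⟩ htK1
    change (χ : G → ℂ) t = _ at h
    rw [hvv, hsplit, haa1] at h
    simp only [hlt'] at h
    have : ((vv χ : ℤ) : ℂ) = ((-((∑ i : J, aa i.1 χ * lt i.1) + aa θ χ * lt θ) : ℤ) : ℂ) := by
      rw [h]; push_cast; ring
    exact_mod_cast this
  -- factorisations
  have hF : ∀ y : G, (Nat.card G : ℂ) * F y =
      (n : ℂ) ^ 2 * ∑ χ : IrrCharacter G, (vv χ : ℂ) ^ 2 / dd χ * (χ : G → ℂ) y := by
    intro y
    have hmem : ∀ u : G, u ∈ DihBlk.invs G ↔ orderOf u = 2 := fun u => by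
      rw [DihBlk.mem_invs, orderOf_two_iff]
    have e : F y = DihBlk.cnt y := Nat.card_congr (Equiv.subtypeEquivRight fun u => by
      simp only [hmem])
    rw [e, DihBlk.cnt_formula, Finset.mul_sum]
    refine Finset.sum_congr rfl fun χ _ => ?_
    have hs : ∑ u ∈ DihBlk.invs G, (χ : G → ℂ) u = (n : ℂ) * vv χ := by
      rw [Finset.sum_congr rfl fun u hu => by
        rw [IsClass.eq_of_isConj (IsIrr.classFun χ.2) (D.conj u t ((hmem u).1 hu) D.ot), hvv χ],
        Finset.sum_const, nsmul_eq_mul]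
      congr 1
      rw [hndef, ← D.card_two, ← Nat.card_eq_finsetCard]
      exact_mod_cast Nat.card_congr (Equiv.subtypeEquivRight fun u => hmem u)
    rw [hs, hdd χ]
    ring
  have hratio : ∀ l, l ≠ 1 → (n : ℂ) * ∑ χ : IrrCharacter G, (aa l χ : ℂ) * ((vv χ : ℂ) ^ 2 / dd χ) =
      2 * (k : ℂ) ^ 2 := by
    intro l hl
    have hFcf : IsClassFunction G (fun y => (F y : ℂ)) := fun a b => by simp only [F_conj]
    have hidx : K.index = 2 * n := by
      have h := K.card_mul_index
      rw [hgn, ← hkdef] at h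
      refine Nat.eq_of_mul_eq_mul_left (show 0 < k by omega) (h.trans ?_)
      ring
    have h1 : ∑ y : G, indFun K (fl l) y * (F y : ℂ) = (2 * n : ℕ) * ((k : ℂ) * k) := by
      rw [sum_indFun_mul K _ hFcf, hidx]
      congr 1
      have hval : ∀ h : K, fl l h * (F (h : G) : ℂ) = (k : ℂ) * fl l h := by
        intro h
        by_cases hh : h = 1
        · subst hh; simp [fl]
        · rw [F_K D h.2 (fun e => hh (Subtype.ext e)), ← hkdef]; ring
      rw [Finset.sum_congr rfl fun h _ => hval h, ← Finset.mul_sum]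
      congr 1
      simp [fl, linear_sum l hl, hkdef, Nat.card_eq_fintype_card]
    have h2 : ∀ χ : IrrCharacter G, ∑ y : G, (χ : G → ℂ) y * (F y : ℂ) =
        (n : ℂ) ^ 2 * ((vv χ : ℂ) ^ 2 / dd χ) := by
      intro χ
      have hg0 : (Nat.card G : ℂ) ≠ 0 := Nat.cast_ne_zero.2 Nat.card_pos.ne'
      have e : (fun y => (F y : ℂ)) =
          ∑ ψ : IrrCharacter G, ((n : ℂ) ^ 2 * ((vv ψ : ℂ) ^ 2 / dd ψ) / Nat.card G) • (ψ : G → ℂ) := by
        funext y
        rw [Finset.sum_apply]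
        apply mul_left_cancel₀ hg0
        rw [hF y, Finset.mul_sum, Finset.mul_sum]
        refine Finset.sum_congr rfl fun ψ _ => ?_
        rw [Pi.smul_apply, smul_eq_mul]
        field_simp
      have h3 := classInner_sum_irr
        (fun ψ : IrrCharacter G => (n : ℂ) ^ 2 * ((vv ψ : ℂ) ^ 2 / dd ψ) / Nat.card G) χ
      rw [← e, classInner] at h3
      have h4 := congrArg conj h3
      simp only [map_mul, map_inv₀, map_natCast, map_sum, map_div₀, map_pow, map_intCast,
        Complex.conj_conj] at h4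
      rw [Finset.sum_congr rfl fun y _ => mul_comm ((χ : G → ℂ) y) _]
      field_simp at h4 ⊢
      linear_combination h4
    have h5 : ∑ y : G, indFun K (fl l) y * (F y : ℂ) =
        (n : ℂ) ^ 2 * ∑ χ : IrrCharacter G, (aa l χ : ℂ) * ((vv χ : ℂ) ^ 2 / dd χ) := by
      simp only [hΨy, Finset.sum_mul]
      rw [Finset.sum_comm, Finset.mul_sum]
      refine Finset.sum_congr rfl fun χ _ => ?_
      simp only [mul_assoc, ← Finset.mul_sum]
      rw [h2 χ]; ring
    rw [h1] at h5
    apply mul_left_cancel₀ (show (n : ℂ) ≠ 0 from Nat.cast_ne_zero.2 hn0)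
    push_cast at h5 ⊢
    linear_combination -h5
  -- restrict to the non-trivial characters
  let ι := {χ : IrrCharacter G // χ ≠ one}
  have hrest : ∀ {R : Type} [AddCommGroup R] (f : IrrCharacter G → R),
      ∑ χ : ι, f χ.1 = (∑ χ, f χ) - f one := by
    intro R _ f
    rw [← Finset.sum_erase_eq_sub (Finset.mem_univ one)]
    exact (Finset.sum_subtype _ (fun χ => by simp) f).symm
  have hvone : vv one = 1 := by
    have h := hvv one
    simp only [one] at h
    exact_mod_cast h.symm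
  have hdone : dd one = 1 := by
    have h := hdd one
    simp only [one] at h
    exact_mod_cast h.symm
  obtain ⟨i₀⟩ : Nonempty J := Fintype.card_pos_iff.1 (by omega)
  set C : ℚ := ∑ χ : ι, (aa i₀.1 χ.1 : ℚ) * (vv χ.1 : ℚ) ^ 2 / dd χ.1 with hC
  have hnC : ∀ l, l ≠ 1 →
      (n : ℂ) * (1 + ((∑ χ : ι, (aa l χ.1 : ℚ) * (vv χ.1 : ℚ) ^ 2 / dd χ.1 : ℚ) : ℂ)) =
        2 * (k : ℂ) ^ 2 := by
    intro l hl
    rw [cast_ratio, hrest (fun χ => (aa l χ : ℂ) * ((vv χ : ℂ) ^ 2 / dd χ)), hone l hl, hvone,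
      hdone, ← hratio l hl]
    push_cast
    ring
  have hCall : ∀ l, l ≠ 1 → ∑ χ : ι, (aa l χ.1 : ℚ) * (vv χ.1 : ℚ) ^ 2 / dd χ.1 = C := by
    intro l hl
    have h := (hnC l hl).trans (hnC i₀.1 (hJne i₀)).symm
    have h2 := add_left_cancel (mul_left_cancel₀ (Nat.cast_ne_zero.2 hn0) h)
    exact Rat.cast_injective h2
  have hθJ : ∀ i : J, i.1 ≠ θ ∧ i.1 * θ ≠ 1 := fun i => by
    refine ⟨fun e => i.2 ((hθ _).2 (Or.inr e)), fun e => i.2 ((hθ _).2 (Or.inr ?_))⟩
    rw [eq_inv_of_mul_eq_one_left e, hθinv]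
  have hg1 : ∀ l m, l ≠ 1 → m ≠ 1 → ∑ χ : ι, aa l χ.1 * aa m χ.1 =
      1 + (if l = m then 1 else 0) + (if l * m = 1 then 1 else 0) := by
    intro l m hl hm
    rw [hrest (fun χ => aa l χ * aa m χ), hgram l m hl hm, hone l hl, hone m hm]
    ring
  have V : Vecs (fun (i : J) (χ : ι) => aa i.1 χ.1) (fun χ => aa θ χ.1) bar
      (fun χ => dd χ.1) (fun χ => vv χ.1) (fun i => lt i.1) (lt θ) C := by
    refine
      { dpos := fun χ => hdd0 _
        bar_ne := fun i h => i.2 ?_
        bar_bar := fun i => Subtype.ext (inv_inv _)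
        jne := ⟨i₀⟩
        norm := fun i => ?_
        barEq := fun i => ?_
        one := fun i j h1 h2 => ?_
        oneb := fun i => ?_
        normb := ?_
        deg := fun i => ?_
        degb := ?_
        tval := fun i => ?_
        lam_bar := fun i => ?_
        lam_val := fun i => hlt _
        th_val := hlt _
        lam_sum := ?_
        vsq := ?_
        vrow := fun χ => hvrow χ.1
        ratio := fun i => hCall _ (hJne i)
        ratiob := hCall _ hθ1 }
    · exact mul_eq_one_iff_inv_eq.2 (congrArg Subtype.val h)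
    · rw [hg1 _ _ (hJne i) (hJne i), if_pos rfl, if_neg i.2]; norm_num
    · show ∑ χ : ι, aa i.1 χ.1 * aa i.1⁻¹ χ.1 = 2
      rw [hg1 _ _ (hJne i) (inv_ne_one.2 (hJne i)), if_neg, if_pos (mul_inv_cancel _)]
      · norm_num
      · exact fun e => i.2 (mul_eq_one_iff_eq_inv.2 e)
    · rw [hg1 _ _ (hJne i) (hJne j), if_neg, if_neg]
      · norm_num
      · exact fun e => h2 (Subtype.ext (eq_inv_of_mul_eq_one_right e))
      · exact fun e => h1 (Subtype.ext e.symm)
    · rw [hg1 _ _ (hJne i) hθ1, if_neg (hθJ i).1, if_neg (hθJ i).2]; norm_num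
    · rw [hg1 _ _ hθ1 hθ1, if_pos rfl, if_pos ((hθ θ).2 (Or.inr rfl))]; norm_num
    · rw [hrest (fun χ => aa i.1 χ * (dd χ : ℤ)), hdeg, hone _ (hJne i), hdone]; norm_num
    · rw [hrest (fun χ => aa θ χ * (dd χ : ℤ)), hdeg, hone _ hθ1, hdone]; norm_num
    · rw [hrest (fun χ => aa i.1 χ * vv χ), htval, hone _ (hJne i), hvone]; ring
    · have h : ((lt i.1⁻¹ : ℤ) : ℂ) = ((lt i.1 : ℤ) : ℂ) := by
        rw [← hlt', ← hlt', MonoidHom.inv_apply, ← map_inv,
          show (⟨t, D.tK⟩ : K)⁻¹ = ⟨t, D.tK⟩ from Subtype.ext (inv_self_of_two D.ot)]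
      exact_mod_cast h
    · have h := sum_linear_apply D htK1
      rw [hsplit] at h
      simp only [hlt'] at h
      have h1 : (lt 1 : ℂ) = 1 := by rw [← hlt']; simp
      rw [h1] at h
      have : ((∑ i : J, lt i.1 : ℤ) : ℂ) = ((-1 - lt θ : ℤ) : ℂ) := by
        push_cast; linear_combination h
      exact_mod_cast this
    · rw [hrest (fun χ => vv χ * vv χ), hvsq, hvone]
      rw [← hJcard]; push_cast; linarith
  obtain ⟨x, e, m, hev, hm0, hm1, hed, hvx, hbx, hax, hCm, hident⟩ := V.conclusion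
  have hee : e * e = 1 := by rcases hev with rfl | rfl <;> rfl
  -- congruence for the degree
  obtain ⟨z, hz⟩ : ∃ z : ℤ, m - 2 = 2 * k * z := by
    haveI := Fintype.ofFinite (Subgroup.centralizer ({t} : Set G))
    obtain ⟨N, hN⟩ := IsChar.classInner_nat
      (IsChar.res (IsIrr.isCharacter x.1.2) (Subgroup.centralizer ({t} : Set G)))
      (IsChar.one (G := Subgroup.centralizer ({t} : Set G)))
    have hval : ∀ h : Subgroup.centralizer ({t} : Set G),
        (x.1 : G → ℂ) (h : G) = (if h = 1 then (dd x.1 : ℂ) - e else 0) + e := by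
      intro h
      by_cases h1 : h = 1
      · subst h1; simp [hdd]
      rw [if_neg h1, zero_add]
      have h1' : (h : G) ≠ 1 := fun e' => h1 (Subtype.ext e')
      have hht := Subgroup.mem_centralizer_singleton_iff.1 h.2
      by_cases hK : (h : G) ∈ K
      · have hr := hrow x.1 ⟨h, hK⟩ (fun e' => h1' (congrArg Subtype.val e'))
        change (x.1 : G → ℂ) (h : G) = _ at hr
        rw [hr]
        have hsum := sum_linear_apply D (h := ⟨(h : G), hK⟩) (fun e' => h1' (congrArg Subtype.val e'))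
        rw [hsplit] at hsum ⊢
        rw [haa1, hbx, Finset.sum_congr rfl fun i _ => by rw [hax i], ← Finset.mul_sum]
        rw [MonoidHom.one_apply, Units.val_one] at hsum
        push_cast
        linear_combination -(e : ℂ) * hsum
      · rw [IsClass.eq_of_isConj (IsIrr.classFun x.1.2) (D.conj _ t (D.two_of_outside hht hK) D.ot),
          hvv, hvx]
    simp only [classInner, map_one, mul_one, D.card_centralizer, ← hkdef] at hN
    rw [Finset.sum_congr rfl fun h _ => hval h, Finset.sum_add_distrib, Finset.sum_ite_eq',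
      if_pos (Finset.mem_univ _), Finset.sum_const, Finset.card_univ, ← Nat.card_eq_fintype_card,
      D.card_centralizer, ← hkdef, nsmul_eq_mul] at hN
    push_cast at hN
    field_simp at hN
    have hN' : (dd x.1 : ℤ) - e + 2 * k * e = 2 * k * N := by
      have : (((dd x.1 : ℤ) - e + 2 * k * e : ℤ) : ℂ) = ((2 * k * N : ℤ) : ℂ) := by
        push_cast; linear_combination hN
      exact_mod_cast this
    refine ⟨e * N - 1, ?_⟩
    have h2 : e * ((dd x.1 : ℤ) - e + 2 * k * e) = e * (2 * k * N) := by rw [hN']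
    linear_combination h2 - hed - (2 * k - 1) * hee
  -- the order
  have hmQ : (m : ℚ) ≠ 0 := Int.cast_ne_zero.2 hm0
  have hm1Q : (m : ℚ) - 1 ≠ 0 := sub_ne_zero.2 (by exact_mod_cast hm1)
  have hord : (n : ℤ) * (m - 2) ^ 2 = 2 * (k : ℤ) ^ 2 * (m * (m - 1)) := by
    have h := hnC i₀.1 (hJne i₀)
    rw [← hC] at h
    have h' : (n : ℚ) * (1 + C) = 2 * (k : ℚ) ^ 2 := by exact_mod_cast h
    rw [hCm] at h'
    field_simp at h'
    have : (((n : ℤ) * (m - 2) ^ 2 : ℤ) : ℚ) = ((2 * (k : ℤ) ^ 2 * (m * (m - 1)) : ℤ) : ℚ) := by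
      push_cast; linear_combination h'
    exact_mod_cast this
  have hm2 : m = 2 + 2 * k * z := by linarith
  have hj : (n : ℤ) * z ^ 2 = (1 + k * z) * (1 + 2 * k * z) := by
    rw [hm2] at hord
    have hk2 : (4 * (k : ℤ) ^ 2) ≠ 0 := mul_ne_zero (by norm_num) (pow_ne_zero 2 (by omega))
    apply mul_left_cancel₀ hk2
    linear_combination hord
  have hz1 : z = 1 ∨ z = -1 := by
    refine Int.isUnit_iff.1 (IsUnit.of_mul_eq_one ((n : ℤ) * z - 3 * k - 2 * (k : ℤ) ^ 2 * z) ?_)
    linear_combination hj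
  -- factorisations outside the conjugates of `K`
  have hmC : (m : ℂ) ≠ 0 := Int.cast_ne_zero.2 hm0
  have hFy : ∀ y : G, y ≠ 1 → ¬ ConjK K y → (2 * k : ℂ) * F y =
      (n : ℂ) * (1 + 2 * ((k : ℂ) - 1) / m +
        (e : ℂ) * (x.1 : G → ℂ) y * (1 / ((m : ℂ) - 1) + 2 * ((k : ℂ) - 1) / m)) := by
    intro y hy1 hyK
    have hΨ0 : ∀ l, ∑ χ : IrrCharacter G, (aa l χ : ℂ) * (χ : G → ℂ) y = 0 := by
      intro l
      rw [← hΨy]
      refine indFun_eq_zero_of_not_conj K _ fun g hg => ?_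
      exact absurd ⟨g, hg⟩ hyK
    have hq : ∀ w : ι, (vv w.1 : ℂ) ^ 2 / dd w.1 =
        (if w = x then (e : ℂ) * (1 / ((m : ℂ) - 1) + 2 * ((k : ℂ) - 1) / m) else 0) -
          2 / (m : ℂ) * ((∑ i : J, (aa i.1 w.1 : ℂ)) + aa θ w.1) := by
      intro w
      have hk' : ((Fintype.card J : ℚ) + 1) = (k : ℚ) - 1 := by rw [← hJcard]; push_cast; ring
      by_cases hwx : w = x
      · rw [if_pos hwx]
        have h := (hident w).1 hwx
        rw [hk'] at h
        have h2 := congrArg (fun q : ℚ => (q : ℂ)) h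
        push_cast at h2
        exact h2
      · rw [if_neg hwx, zero_sub]
        have h2 := congrArg (fun q : ℚ => (q : ℂ)) ((hident w).2 hwx)
        push_cast at h2
        exact h2
    have h := hF y
    rw [hgn] at h
    have hsum : ∑ χ : IrrCharacter G, (vv χ : ℂ) ^ 2 / dd χ * (χ : G → ℂ) y =
        1 + ∑ w : ι, (vv w.1 : ℂ) ^ 2 / dd w.1 * (w.1 : G → ℂ) y := by
      rw [hrest (fun χ => (vv χ : ℂ) ^ 2 / dd χ * (χ : G → ℂ) y), hvone, hdone]
      simp [one]
    have hrest2 : ∀ l, l ≠ 1 → ∑ w : ι, (aa l w.1 : ℂ) * (w.1 : G → ℂ) y = -1 := by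
      intro l hl
      rw [hrest (fun χ => (aa l χ : ℂ) * (χ : G → ℂ) y), hΨ0, hone l hl]
      simp [one]
    rw [hsum, Finset.sum_congr rfl fun w _ => by rw [hq w, sub_mul, ite_mul, zero_mul, mul_assoc
      (2 / (m : ℂ)), add_mul, Finset.sum_mul], Finset.sum_sub_distrib, Finset.sum_ite_eq',
      if_pos (Finset.mem_univ _), ← Finset.mul_sum, Finset.sum_add_distrib, Finset.sum_comm,
      Finset.sum_congr rfl fun i _ => hrest2 _ (hJne i), hrest2 _ hθ1, Finset.sum_const,
      Finset.card_univ, nsmul_eq_mul] at h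
    have hk'' : (Fintype.card J : ℂ) = (k : ℂ) - 2 := by rw [← hJcard]; push_cast; ring
    rw [hk''] at h
    apply mul_left_cancel₀ (show (n : ℂ) ≠ 0 from Nat.cast_ne_zero.2 hn0)
    push_cast at h ⊢
    linear_combination h
  -- the two cases
  have hW : ∀ (y : G) (r : ℚ), (e : ℂ) * (x.1 : G → ℂ) y = (r : ℂ) →
      ∃ w : ℤ, (e : ℂ) * (x.1 : G → ℂ) y = w := by
    intro y r hr
    obtain ⟨w, hw⟩ := int_of_isIntegral_rat (q := r) (hr ▸
      (isIntegral_algebraMap (R := ℤ) (A := ℂ) (x := e)).mul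
        (IsChar.isIntegral (IsIrr.isCharacter x.1.2) y))
    exact ⟨w, hr.trans hw⟩
  rcases hz1 with rfl | rfl
  · left
    have hn : n = (k + 1) * (2 * k + 1) := by
      have : (n : ℤ) = (((k + 1) * (2 * k + 1) : ℕ) : ℤ) := by push_cast; linear_combination hj
      exact_mod_cast this
    refine ⟨hn, fun y hy1 hyK => ?_⟩
    have h := hFy y hy1 hyK
    rw [hn, hm2] at h
    push_cast at h
    rw [show (2 + 2 * (k : ℂ) * 1) = 2 * ((k : ℂ) + 1) by ring] at h
    rw [show (2 * ((k : ℂ) + 1) - 1) = 2 * (k : ℂ) + 1 by ring] at h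
    have hd1 : ((k : ℂ) + 1) ≠ 0 := by
      have : ((k + 1 : ℕ) : ℂ) ≠ 0 := Nat.cast_ne_zero.2 (by omega)
      push_cast at this; exact this
    have hd2 : (2 * (k : ℂ) + 1) ≠ 0 := by
      have : ((2 * k + 1 : ℕ) : ℂ) ≠ 0 := Nat.cast_ne_zero.2 (by omega)
      push_cast at this; exact this
    have hd2' : ((k : ℂ) * 2 + 1) ≠ 0 := by rw [mul_comm]; exact hd2
    generalize hWdef : (e : ℂ) * (x.1 : G → ℂ) y = W at h
    have hWF : (k : ℂ) * W = (F y : ℂ) - (2 * k + 1) := by
      have h' : (2 * k : ℂ) * F y = (2 * k + 1) * (2 * k) + 2 * k * k * W := by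
        rw [h]; field_simp; ring
      apply mul_left_cancel₀ (mul_ne_zero two_ne_zero hk0)
      linear_combination -h'
    obtain ⟨w, hw⟩ := hW y (((F y : ℚ) - (2 * k + 1)) / k) (by
      rw [hWdef]; push_cast; rw [eq_div_iff hk0, mul_comm, hWF])
    rw [hWdef] at hw
    rw [hw] at hWF
    have hF' : (F y : ℤ) = 1 + k * (w + 2) := by
      have : ((F y : ℤ) : ℂ) = ((1 + k * (w + 2) : ℤ) : ℂ) := by
        push_cast; linear_combination -hWF
      exact_mod_cast this
    have hmod : F y % k = 1 := by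
      have h1 : ((F y : ℤ) % (k : ℤ)) = 1 := by
        rw [hF', Int.add_mul_emod_self_left]
        exact Int.emod_eq_of_lt zero_le_one (by omega)
      exact_mod_cast h1
    refine ⟨Nat.pos_of_ne_zero fun h0 => by rw [h0, Nat.zero_mod] at hmod; omega, F y / k, ?_⟩
    have := Nat.mod_add_div (F y) k
    omega
  · right
    obtain ⟨j, hj'⟩ : ∃ j, k = j + 1 := ⟨k - 1, by omega⟩
    have hn : n = (k - 1) * (2 * k - 1) := by
      rw [hj', Nat.add_sub_cancel, show 2 * (j + 1) - 1 = 2 * j + 1 by omega]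
      have : (n : ℤ) = ((j * (2 * j + 1) : ℕ) : ℤ) := by
        rw [hj'] at hj; push_cast at hj ⊢; linear_combination hj
      exact_mod_cast this
    refine ⟨hn, fun y hy1 hyK => ?_⟩
    have h := hFy y hy1 hyK
    rw [hn, hm2, hj', Nat.add_sub_cancel, show 2 * (j + 1) - 1 = 2 * j + 1 by omega] at h
    rw [hj', Nat.add_sub_cancel]
    push_cast at h
    have hj0 : (j : ℂ) ≠ 0 := Nat.cast_ne_zero.2 (by omega)
    have hd1 : (2 + 2 * ((j : ℂ) + 1) * (-1)) = -2 * (j : ℂ) := by ring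
    have hd2 : (2 * (j : ℂ) + 1) ≠ 0 := by
      have : ((2 * j + 1 : ℕ) : ℂ) ≠ 0 := Nat.cast_ne_zero.2 (by omega)
      push_cast at this; exact this
    have hd2' : ((j : ℂ) * 2 + 1) ≠ 0 := by rw [mul_comm]; exact hd2
    rw [hd1, show (-2 * (j : ℂ) - 1) = -(2 * (j : ℂ) + 1) by ring, div_neg] at h
    generalize hWdef : (e : ℂ) * (x.1 : G → ℂ) y = W at h
    have hd3 : (2 : ℂ) * ((j : ℂ) + 1) ≠ 0 := by
      have : ((2 * (j + 1) : ℕ) : ℂ) ≠ 0 := Nat.cast_ne_zero.2 (by omega)
      push_cast at this; exact this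
    have hWF : (j : ℂ) * W = -(F y : ℂ) := by
      have h' : 2 * ((j : ℂ) + 1) * F y = -(2 * ((j : ℂ) + 1) * j * W) := by
        rw [h]; field_simp; ring
      apply mul_left_cancel₀ hd3
      linear_combination h'
    obtain ⟨w, hw⟩ := hW y (-(F y : ℚ) / j) (by
      rw [hWdef]; push_cast; rw [eq_div_iff hj0, mul_comm, hWF])
    rw [hWdef] at hw
    rw [hw] at hWF
    refine Int.natCast_dvd_natCast.1 ⟨-w, ?_⟩
    have : ((F y : ℤ) : ℂ) = (((j : ℤ) * -w : ℤ) : ℂ) := by
      push_cast; linear_combination hWF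
    exact_mod_cast this

end Cfsg.Agent.Invol.BSW
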