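import Cfsg.Agent.Lib.Invol.BSW.Two
import Cfsg.Agent.Lib.Invol.BSW.Chars

/-!
# The abstract Brauer-Suzuki-Wall theorem
-/

set_option autoImplicit false

namespace Cfsg.Agent.Invol.BSW

universe u

variable {G : Type u} [Group G] [Finite G] {t s : G} {K : Subgroup G}

theorem Hyp.concl (D : Hyp t s K) : Concl G := by
  obtain ⟨j, hj⟩ := D.two_dvd_card
  rcases Nat.lt_or_ge (Nat.card K) 4 with h | h
  · exact D.two_case (by have := Nat.card_pos (α := K); omega)
  · rcases D.char_result h with ⟨hn, hF⟩ | ⟨hn, hF⟩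
    · exact D.plus_case hn hF
    · exact D.minus_case hn hF

end Cfsg.Agent.Invol.BSW
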