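import Mathlib

/-!
# The configuration of the abstract Brauer-Suzuki-Wall theorem

An involution `t` whose centralizer is generalised dihedral over an abelian subgroup `K` meeting
its other conjugates trivially; all involutions are conjugate. Elementary consequences.
-/

set_option autoImplicit false

namespace Cfsg.Agent.Invol.BSW

universe u

variable {G : Type u} [Group G]

theorem orderOf_two_iff {x : G} : orderOf x = 2 ↔ x * x = 1 ∧ x ≠ 1 := by
  constructor
  · intro h
    refine ⟨by rw [← pow_two, ← h, pow_orderOf_eq_one], fun e => ?_⟩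
    rw [e, orderOf_one] at h
    omega
  · rintro ⟨h1, h2⟩
    exact orderOf_eq_prime (by rw [pow_two, h1]) h2

theorem inv_self_of_two {x : G} (h : orderOf x = 2) : x⁻¹ = x :=
  inv_eq_of_mul_eq_one_right (orderOf_two_iff.1 h).1

theorem orderOf_conj (g x : G) : orderOf (g * x * g⁻¹) = orderOf x :=
  orderOf_injective (MulAut.conj g).toMonoidHom (MulAut.conj g).injective x

theorem orderOf_conj' (g x : G) : orderOf (g⁻¹ * x * g) = orderOf x := by
  simpa using orderOf_conj g⁻¹ x

/-- The configuration. -/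
structure Hyp (t s : G) (K : Subgroup G) : Prop where
  ot : orderOf t = 2
  comm : ∀ a ∈ K, ∀ b ∈ K, a * b = b * a
  tK : t ∈ K
  KC : ∀ a ∈ K, a * t = t * a
  os : orderOf s = 2
  st : s * t = t * s
  sK : s ∉ K
  cover : ∀ g : G, g * t = t * g → g ∈ K ∨ g * s ∈ K
  fixs : ∀ a ∈ K, a * s = s * a → a = 1 ∨ a = t
  inverts : ∀ a ∈ K, s * a * s⁻¹ = a⁻¹
  ti : ∀ g a : G, a ∈ K → g * a * g⁻¹ ∈ K → a ≠ 1 → g * t = t * g
  conj : ∀ x y : G, orderOf x = 2 → orderOf y = 2 → IsConj x y

variable {t s : G} {K : Subgroup G} (D : Hyp t s K)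
include D

namespace Hyp

theorem tt : t * t = 1 := (orderOf_two_iff.1 D.ot).1

theorem t_ne : t ≠ 1 := (orderOf_two_iff.1 D.ot).2

theorem ss : s * s = 1 := (orderOf_two_iff.1 D.os).1

theorem two_eq {a : G} (ha : a ∈ K) (h : orderOf a = 2) : a = t := by
  refine (D.fixs a ha ?_).resolve_left (orderOf_two_iff.1 h).2
  have h1 := D.inverts a ha
  rw [inv_self_of_two h, mul_inv_eq_iff_eq_mul] at h1
  exact h1.symm

theorem two_mul_s {a : G} (ha : a ∈ K) : orderOf (a * s) = 2 := by
  refine orderOf_two_iff.2 ⟨?_, fun h => D.sK ?_⟩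
  · have h1 := D.inverts a ha
    rw [inv_self_of_two D.os] at h1
    calc a * s * (a * s) = a * (s * a * s) := by group
      _ = 1 := by rw [h1, mul_inv_cancel]
  · have : s = a⁻¹ := eq_inv_of_mul_eq_one_right h
    rw [this]
    exact inv_mem ha

theorem two_of_outside {g : G} (hg : g * t = t * g) (hgK : g ∉ K) : orderOf g = 2 := by
  have h := (D.cover g hg).resolve_left hgK
  have := D.two_mul_s h
  rwa [mul_assoc, D.ss, mul_one] at this

theorem comm_outside {g : G} (hg : g * t = t * g) (hgK : g ∉ K) {a : G} (ha : a ∈ K) :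
    g * a * g⁻¹ = a⁻¹ := by
  have hb := (D.cover g hg).resolve_left hgK
  have h1 := D.inverts a ha
  calc g * a * g⁻¹ = (g * s) * (s⁻¹ * a * s⁻¹⁻¹) * (g * s)⁻¹ := by group
    _ = (g * s) * (s * a * s⁻¹) * (g * s)⁻¹ := by simp only [inv_self_of_two D.os]
    _ = (g * s) * a⁻¹ * (g * s)⁻¹ := by rw [h1]
    _ = a⁻¹ := by rw [D.comm _ hb _ (inv_mem ha), mul_inv_cancel_right]

theorem conj_mem {g : G} (hg : g * t = t * g) {a : G} (ha : a ∈ K) : g * a * g⁻¹ ∈ K := by
  by_cases hgK : g ∈ K
  · rwa [D.comm g hgK a ha, mul_inv_cancel_right]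
  · rw [D.comm_outside hg hgK ha]; exact inv_mem ha

theorem conj_mem' {g : G} (hg : g * t = t * g) {a : G} (ha : a ∈ K) : g⁻¹ * a * g ∈ K := by
  have hg' : g⁻¹ * t = t * g⁻¹ := (Commute.inv_left (show Commute g t from hg)).eq
  simpa using D.conj_mem hg' ha

/-- The centralizer of a non-trivial element of `K` lies in that of `t`. -/
theorem cent_le {a g : G} (ha : a ∈ K) (h1 : a ≠ 1) (hg : g * a = a * g) : g * t = t * g :=
  D.ti g a ha (by rwa [hg, mul_inv_cancel_right]) h1

/-- An element inverting a non-trivial element of `K` lies in the centralizer of `t`. -/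
theorem inverter {a g : G} (ha : a ∈ K) (h1 : a ≠ 1) (hg : g * a * g⁻¹ = a⁻¹) : g * t = t * g :=
  D.ti g a ha (hg ▸ inv_mem ha) h1

end Hyp

/-- Conjugate to an element of `K`. -/
def ConjK (K : Subgroup G) (y : G) : Prop := ∃ g : G, g⁻¹ * y * g ∈ K

omit D in
theorem ConjK.conj {y : G} (h : ConjK K y) (g : G) : ConjK K (g * y * g⁻¹) := by
  obtain ⟨x, hx⟩ := h
  exact ⟨g * x, by simpa [mul_assoc] using hx⟩

omit D in
theorem ConjK.conj_iff {y : G} (g : G) : ConjK K (g * y * g⁻¹) ↔ ConjK K y :=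
  ⟨fun h => by simpa [mul_assoc] using h.conj g⁻¹, fun h => h.conj g⟩

omit D in
theorem ConjK.inv_iff {y : G} : ConjK K y⁻¹ ↔ ConjK K y := by
  constructor <;> rintro ⟨g, hg⟩ <;> refine ⟨g, ?_⟩
  · simpa [mul_assoc] using inv_mem hg
  · simpa [mul_assoc] using inv_mem hg

namespace Hyp

theorem conjK_two {y : G} (hy : orderOf y = 2) : ConjK K y := by
  obtain ⟨g, hg⟩ := isConj_iff.1 (D.conj t y D.ot hy)
  exact ⟨g, by rw [← hg]; simpa [mul_assoc] using D.tK⟩

/-- The centralizer of an element outside the conjugates of `K` contains no involution. -/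
theorem no_two_cent {y u : G} (hy1 : y ≠ 1) (hy : ¬ ConjK K y) (hu : orderOf u = 2) : u * y ≠ y * u := by
  intro h
  obtain ⟨g, hg⟩ := isConj_iff.1 (D.conj t u D.ot hu)
  have h' : g⁻¹ * y * g * t = t * (g⁻¹ * y * g) := by
    have e : g⁻¹ * u * g = t := by rw [← hg]; group
    rw [← e]
    calc g⁻¹ * y * g * (g⁻¹ * u * g) = g⁻¹ * (y * u) * g := by group
      _ = g⁻¹ * (u * y) * g := by rw [h]
      _ = _ := by group
  by_cases hK : g⁻¹ * y * g ∈ K
  · exact hy ⟨g, hK⟩
  · have := D.two_of_outside h' hK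
    rw [orderOf_conj'] at this
    exact hy (D.conjK_two this)

theorem odd_cent [Finite G] {y : G} (hy1 : y ≠ 1) (hy : ¬ ConjK K y) :
    Odd (Nat.card (Subgroup.centralizer ({y} : Set G))) := by
  rw [← Nat.not_even_iff_odd, even_iff_two_dvd]
  intro h
  haveI : Fact (Nat.Prime 2) := ⟨Nat.prime_two⟩
  obtain ⟨⟨u, hu⟩, hu2⟩ := exists_prime_orderOf_dvd_card' 2 h
  rw [Subgroup.orderOf_mk] at hu2
  exact D.no_two_cent hy1 hy hu2 (Subgroup.mem_centralizer_singleton_iff.1 hu)

theorem two_dvd_card [Finite G] : 2 ∣ Nat.card K :=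
  D.ot ▸ (Subgroup.orderOf_mk t D.tK ▸ orderOf_dvd_natCard (G := K) ⟨t, D.tK⟩)

theorem card_centralizer [Finite G] :
    Nat.card (Subgroup.centralizer ({t} : Set G)) = 2 * Nat.card K := by
  classical
  have hmem : ∀ g, g ∈ Subgroup.centralizer ({t} : Set G) ↔ g * t = t * g := fun g =>
    Subgroup.mem_centralizer_singleton_iff
  have hst : s * t = t * s := D.st
  let f : K ⊕ K → Subgroup.centralizer ({t} : Set G) := Sum.elim
    (fun a => ⟨a, (hmem _).2 (D.KC a a.2)⟩)
    (fun a => ⟨(a : G) * s, (hmem _).2 (by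
      rw [mul_assoc, hst, ← mul_assoc, D.KC a a.2, mul_assoc])⟩)
  have hf : Function.Bijective f := by
    refine ⟨?_, ?_⟩
    · rintro (a | a) (b | b) h <;> have h' := congrArg Subtype.val h <;>
        simp only [f, Sum.elim_inl, Sum.elim_inr] at h'
      · exact congrArg _ (Subtype.ext h')
      · exact absurd (show s ∈ K by
          rw [show s = (b : G)⁻¹ * a by rw [h']; group]; exact mul_mem (inv_mem b.2) a.2) D.sK
      · exact absurd (show s ∈ K by
          rw [show s = (a : G)⁻¹ * b by rw [← h']; group]; exact mul_mem (inv_mem a.2) b.2) D.sK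
      · exact congrArg _ (Subtype.ext (mul_right_cancel h'))
    · rintro ⟨g, hg⟩
      rcases D.cover g ((hmem g).1 hg) with h | h
      · exact ⟨Sum.inl ⟨g, h⟩, rfl⟩
      · exact ⟨Sum.inr ⟨g * s, h⟩, Subtype.ext (by simp [f, mul_assoc, D.ss])⟩
  rw [← Nat.card_eq_of_bijective f hf, Nat.card_sum]
  omega

theorem card_eq [Finite G] :
    Nat.card G = 2 * Nat.card K * (Subgroup.centralizer ({t} : Set G)).index := by
  rw [← D.card_centralizer, Subgroup.card_mul_index]

/-- The number of involutions. -/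
theorem card_two [Finite G] :
    Nat.card {u : G // orderOf u = 2} = (Subgroup.centralizer ({t} : Set G)).index := by
  have h1 := MulAction.index_stabilizer (ConjAct G) t
  rw [ConjAct.stabilizer_eq_centralizer] at h1
  erw [h1]
  rw [← Nat.card_coe_set_eq]
  refine Nat.card_congr (Equiv.subtypeEquivRight fun u => ?_)
  rw [ConjAct.mem_orbit_conjAct]
  constructor
  · intro h; exact D.conj u t h D.ot
  · intro h
    obtain ⟨g, hg⟩ := isConj_iff.1 h.symm
    rw [← hg, orderOf_conj, D.ot]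

end Hyp

end Cfsg.Agent.Invol.BSW
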