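import Cfsg.Agent.Lib.Invol.BSW.Elements

/-!
# Counting the elements of a group in the Brauer-Suzuki-Wall configuration
-/

set_option autoImplicit false

namespace Cfsg.Agent.Invol.BSW

open Finset

universe u

variable {G : Type u} [Group G] [Finite G]

/-- The non-trivial elements conjugate into a trivial intersection subgroup. -/
theorem card_conj_union (B N : Subgroup G) (hN : ∀ g ∈ N, ∀ b ∈ B, g⁻¹ * b * g ∈ B)
    (hti : ∀ g b : G, b ∈ B → b ≠ 1 → g * b * g⁻¹ ∈ B → g ∈ N) :
    Nat.card {y : G // y ≠ 1 ∧ ∃ g : G, g⁻¹ * y * g ∈ B} * Nat.card N =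
      Nat.card G * (Nat.card B - 1) := by
  classical
  have hsub : Nat.card {b : B // b ≠ 1} = Nat.card B - 1 := by
    haveI := Fintype.ofFinite B
    rw [Nat.card_eq_fintype_card, Nat.card_eq_fintype_card, Fintype.card_subtype_compl,
      Fintype.card_subtype_eq]
  rw [← hsub, ← Nat.card_prod, ← Nat.card_prod]
  choose c hc using fun y : {y : G // y ≠ 1 ∧ ∃ g : G, g⁻¹ * y * g ∈ B} => y.2.2
  have hcn : ∀ (y : {y : G // y ≠ 1 ∧ ∃ g : G, g⁻¹ * y * g ∈ B}) (g : G),
      g⁻¹ * y * g ≠ 1 := fun y g h => y.2.1 (by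
    have := congrArg (fun w => g * w * g⁻¹) h; simpa [mul_assoc] using this)
  let f : {y : G // y ≠ 1 ∧ ∃ g : G, g⁻¹ * y * g ∈ B} × N → G × {b : B // b ≠ 1} := fun p =>
    (c p.1 * p.2, ⟨⟨(c p.1 * (p.2 : G))⁻¹ * p.1 * (c p.1 * (p.2 : G)), by
      have := hN p.2 p.2.2 _ (hc p.1)
      simpa [mul_assoc] using this⟩, fun h => hcn p.1 _ (congrArg Subtype.val h)⟩)
  refine Nat.card_eq_of_bijective f ⟨?_, ?_⟩
  · rintro ⟨y, h⟩ ⟨y', h'⟩ e
    simp only [f, Prod.mk.injEq, Subtype.mk.injEq] at e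
    obtain ⟨e1, e2⟩ := e
    rw [e1] at e2
    have hy : y = y' := Subtype.ext (mul_left_cancel (mul_right_cancel e2))
    subst hy
    have : h = h' := Subtype.ext (mul_left_cancel e1)
    rw [this]
  · rintro ⟨g, ⟨⟨b, hb⟩, hb1⟩⟩
    have hy : g * b * g⁻¹ ≠ 1 := fun h => hb1 (Subtype.ext (conj_eq_one_iff.1 h))
    let y : {y : G // y ≠ 1 ∧ ∃ g : G, g⁻¹ * y * g ∈ B} :=
      ⟨g * b * g⁻¹, hy, g, by simpa [mul_assoc] using hb⟩
    have hmem : (c y)⁻¹ * g ∈ N := by
      refine hti _ b hb (fun h => hb1 (Subtype.ext h)) ?_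
      have := hc y
      simpa [y, mul_assoc] using this
    refine ⟨(y, ⟨(c y)⁻¹ * g, hmem⟩), ?_⟩
    simp only [f]
    refine Prod.ext ?_ (Subtype.ext (Subtype.ext ?_))
    · simp
    · simp [y, mul_assoc]

/-- A subgroup of index prime to `p` contains a conjugate of every `p`-element. -/
theorem exists_conj_mem {p : ℕ} [Fact p.Prime] (B : Subgroup G) (hB : ¬ p ∣ B.index) {z : G}
    (hz : IsPGroup p (Subgroup.zpowers z)) : ∃ g : G, g⁻¹ * z * g ∈ B := by
  obtain ⟨S, hS⟩ := hz.exists_le_sylow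
  obtain ⟨T⟩ : Nonempty (Sylow p B) := inferInstance
  have hT : IsPGroup p ((T : Subgroup B).map B.subtype) := T.isPGroup'.map _
  obtain ⟨U, hU⟩ := hT.exists_le_sylow
  have hUeq : (T : Subgroup B).map B.subtype = (U : Subgroup G) := by
    refine Subgroup.eq_of_le_of_card_ge hU ?_
    rw [Subgroup.card_map_of_injective B.subtype_injective]
    have h1 := U.card_eq_multiplicity
    have h2 := T.card_eq_multiplicity
    rw [h1, h2, ← B.card_mul_index, Nat.factorization_mul Nat.card_pos.ne'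
      B.index_ne_zero_of_finite]
    simp [Nat.factorization_eq_zero_of_not_dvd hB]
  obtain ⟨g, hg⟩ := MulAction.exists_smul_eq G U S
  refine ⟨g, ?_⟩
  have hzS : z ∈ (S : Subgroup G) := hS (Subgroup.mem_zpowers z)
  rw [← hg, Sylow.smul_def] at hzS
  have h3 : g⁻¹ * z * g ∈ (U : Subgroup G) := by
    obtain ⟨w, hw, e⟩ := hzS
    simp only [MulDistribMulAction.toMonoidEnd_apply, MulDistribMulAction.toMonoidHom_apply,
      MulAut.smul_def, MulAut.conj_apply] at e
    rw [← e]
    have e2 : g⁻¹ * (g * w * g⁻¹) * g = w := by group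
    rw [e2]
    exact hw
  rw [← hUeq] at h3
  obtain ⟨w, -, hw⟩ := h3
  exact hw ▸ w.2

theorem isPGroup_zpowers {p : ℕ} [Fact p.Prime] {z : G} (hz : orderOf z = p) :
    IsPGroup p (Subgroup.zpowers z) :=
  IsPGroup.of_card (n := 1) (by rw [Nat.card_zpowers, hz, pow_one])

namespace Hyp

variable {t s : G} {K : Subgroup G} (D : Hyp t s K)
include D

/-- For an element `y` inverted by an involution, outside the conjugates of `K`, the centralizer
is a Hall subgroup. -/
theorem cent_hall {y : G} (hy1 : y ≠ 1) (hy : ¬ ConjK K y) (hF : 0 < F y) {p : ℕ} [Fact p.Prime]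
    (hp : p ∣ Nat.card (Subgroup.centralizer ({y} : Set G))) :
    ¬ p ∣ (Subgroup.centralizer ({y} : Set G)).index := by
  set A := Subgroup.centralizer ({y} : Set G) with hA
  obtain ⟨⟨x, hxA⟩, hx⟩ := exists_prime_orderOf_dvd_card' p hp
  rw [Subgroup.orderOf_mk] at hx
  have hx1 : x ≠ 1 := fun e => by
    rw [e, orderOf_one] at hx; exact (Fact.out : p.Prime).one_lt.ne hx
  obtain ⟨P, hP⟩ := (isPGroup_zpowers hx).exists_le_sylow
  haveI : Nontrivial (P : Subgroup G) :=
    ⟨⟨⟨x, hP (Subgroup.mem_zpowers x)⟩, 1, fun e => hx1 (congrArg Subtype.val e)⟩⟩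
  haveI := P.isPGroup'.center_nontrivial
  obtain ⟨⟨⟨c, hcP⟩, hc⟩, hc1⟩ := exists_ne (1 : Subgroup.center (P : Subgroup G))
  have hc1' : c ≠ 1 := fun e => hc1 (Subtype.ext (Subtype.ext e))
  have hcx : c * x = x * c :=
    (congrArg Subtype.val (Subgroup.mem_center_iff.1 hc ⟨x, hP (Subgroup.mem_zpowers x)⟩)).symm
  obtain ⟨hxK, hFx, hCx⟩ :=
    D.cent_eq hy1 hy hF (Subgroup.mem_centralizer_singleton_iff.1 hxA) hx1
  obtain ⟨-, -, hCc⟩ := D.cent_eq hx1 hxK hFx hcx hc1'
  have hPA : (P : Subgroup G) ≤ A := fun w hw => by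
    rw [hA, ← hCx, ← hCc, Subgroup.mem_centralizer_singleton_iff]
    exact congrArg Subtype.val (Subgroup.mem_center_iff.1 hc ⟨w, hw⟩)
  exact fun h => P.not_dvd_index (h.trans (Subgroup.index_dvd_of_le hPA))

/-- Two such centralizers with a common prime divisor are conjugate. -/
theorem cent_conj {y z : G} (hy1 : y ≠ 1) (hy : ¬ ConjK K y) (hF : 0 < F y)
    (hz1 : z ≠ 1) (hz : ¬ ConjK K z) (hFz : 0 < F z) {p : ℕ} [Fact p.Prime]
    (hp : p ∣ Nat.card (Subgroup.centralizer ({y} : Set G)))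
    (hp' : p ∣ Nat.card (Subgroup.centralizer ({z} : Set G))) :
    ∃ g : G, g⁻¹ * z * g ∈ Subgroup.centralizer ({y} : Set G) := by
  obtain ⟨⟨w, hwA⟩, hw⟩ := exists_prime_orderOf_dvd_card' p hp'
  rw [Subgroup.orderOf_mk] at hw
  obtain ⟨g, hg⟩ := exists_conj_mem _ (D.cent_hall hy1 hy hF hp) (isPGroup_zpowers hw)
  refine ⟨g, ?_⟩
  have hne : g⁻¹ * w * g ≠ 1 := fun h => by
    have e : w = 1 := by have := congrArg (fun v => g * v * g⁻¹) h; simpa [mul_assoc] using this
    rw [e, orderOf_one] at hw; exact (Fact.out : p.Prime).one_lt.ne hw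
  obtain ⟨-, -, hC⟩ := D.cent_eq hy1 hy hF (Subgroup.mem_centralizer_singleton_iff.1 hg) hne
  rw [← hC, Subgroup.mem_centralizer_singleton_iff]
  have h := Subgroup.mem_centralizer_singleton_iff.1 hwA
  calc g⁻¹ * z * g * (g⁻¹ * w * g) = g⁻¹ * (z * w) * g := by group
    _ = g⁻¹ * (w * z) * g := by rw [h]
    _ = _ := by group

open scoped Classical in
/-- The sum of `F`. -/
theorem sum_F [Fintype G] :
    ∑ y : G, F y = (Subgroup.centralizer ({t} : Set G)).index ^ 2 := by
  simp only [F]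
  rw [← Nat.card_sigma, pow_two, ← D.card_two, ← Nat.card_prod]
  refine Nat.card_congr
    ⟨fun p => (⟨p.2.1, p.2.2.1⟩, ⟨p.2.1 * p.1, p.2.2.2⟩),
     fun q => ⟨q.1.1 * q.2.1, ⟨q.1.1, q.1.2,
      by rw [← mul_assoc, (orderOf_two_iff.1 q.1.2).1, one_mul]; exact q.2.2⟩⟩, ?_, ?_⟩
  · rintro ⟨y, u, hu, huy⟩
    have e : u * (u * y) = y := by rw [← mul_assoc, (orderOf_two_iff.1 hu).1, one_mul]
    refine Sigma.ext e ?_
    simp only
    refine (Subtype.heq_iff_coe_eq (fun v => ?_)).2 rfl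
    rw [e]
  · rintro ⟨⟨u, hu⟩, ⟨v, hv⟩⟩
    refine Prod.ext rfl (Subtype.ext ?_)
    show u * (u * v) = v
    rw [← mul_assoc, (orderOf_two_iff.1 hu).1, one_mul]

/-- The number of non-trivial elements conjugate into `K`. -/
theorem card_conjK : Nat.card {y : G // y ≠ 1 ∧ ConjK K y} =
    (Subgroup.centralizer ({t} : Set G)).index * (Nat.card K - 1) := by
  have h := card_conj_union K (Subgroup.centralizer ({t} : Set G))
    (fun g hg b hb => D.conj_mem' (Subgroup.mem_centralizer_singleton_iff.1 hg) hb)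
    (fun g b hb h1 h2 => Subgroup.mem_centralizer_singleton_iff.2 (D.ti g b hb h2 h1))
  change Nat.card {y : G // y ≠ 1 ∧ ConjK K y} * _ = _ at h
  rw [D.card_centralizer, D.card_eq] at h
  refine Nat.eq_of_mul_eq_mul_right (by have := Nat.card_pos (α := K); omega) (h.trans ?_)
  ring

end Hyp

open scoped Classical in
/-- The elements outside the conjugates of `K`. -/
noncomputable def others [Fintype G] (K : Subgroup G) : Finset G :=
  Finset.univ.filter fun y => y ≠ 1 ∧ ¬ ConjK K y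

theorem mem_others [Fintype G] {K : Subgroup G} {y : G} :
    y ∈ others K ↔ y ≠ 1 ∧ ¬ ConjK K y := by simp [others]

namespace Hyp

variable {t s : G} {K : Subgroup G} (D : Hyp t s K)
include D

open scoped Classical in
theorem others_eqs [Fintype G] :
    1 + (Subgroup.centralizer ({t} : Set G)).index * (Nat.card K - 1) + (others K).card =
        Nat.card G ∧
      (Subgroup.centralizer ({t} : Set G)).index +
          (Subgroup.centralizer ({t} : Set G)).index * (Nat.card K - 1) * Nat.card K +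
          ∑ y ∈ others K, F y =
        (Subgroup.centralizer ({t} : Set G)).index ^ 2 := by
  have hc : (Finset.univ.filter fun y : G => y ≠ 1 ∧ ConjK K y).card =
      (Subgroup.centralizer ({t} : Set G)).index * (Nat.card K - 1) := by
    rw [← D.card_conjK, Nat.card_eq_fintype_card, Fintype.card_subtype]
  have hu : (Finset.univ : Finset G) =
      insert 1 ((Finset.univ.filter fun y : G => y ≠ 1 ∧ ConjK K y) ∪ others K) := by
    ext y
    simp only [Finset.mem_univ, Finset.mem_insert, Finset.mem_union, Finset.mem_filter, true_and,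
      mem_others, true_iff]
    tauto
  have hd : Disjoint (Finset.univ.filter fun y : G => y ≠ 1 ∧ ConjK K y) (others K) := by
    rw [Finset.disjoint_left]
    intro y hy hy'
    exact (mem_others.1 hy').2 (Finset.mem_filter.1 hy).2.2
  have h1 : (1 : G) ∉ (Finset.univ.filter fun y : G => y ≠ 1 ∧ ConjK K y) ∪ others K := by
    simp [mem_others]
  constructor
  · rw [Nat.card_eq_fintype_card (α := G), ← Finset.card_univ, hu, Finset.card_insert_of_notMem h1,
      Finset.card_union_of_disjoint hd, hc]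
    omega
  · rw [← D.sum_F, hu, Finset.sum_insert h1, Finset.sum_union hd, F_one D, ← add_assoc]
    congr 2
    rw [← hc]
    symm
    refine Finset.sum_const_nat fun y hy => ?_
    obtain ⟨h1, g, hg⟩ := (Finset.mem_filter.1 hy).2
    have e : y = g * (g⁻¹ * y * g) * g⁻¹ := by group
    rw [e, F_conj, F_K D hg]
    intro h
    exact h1 (by rw [e, h, mul_one, mul_inv_cancel])

end Hyp

end Cfsg.Agent.Invol.BSW
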