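import Mathlib
import Cfsg.Agent.Lib.Invol.BSW.Count

/-!
# Counting in groups of odd order covered by self-normalizing trivial intersection subgroups
-/

set_option autoImplicit false

namespace Cfsg.Agent.Invol.BSW

universe u

variable {G : Type u} [Group G] [Finite G]

/-- An element of odd order conjugating a non-trivial element of `B` into `B` lies in `B`. -/
structure IsBlock (B : Subgroup G) : Prop where
  comm : ∀ a ∈ B, ∀ b ∈ B, a * b = b * a
  ti : ∀ g b : G, Odd (orderOf g) → b ∈ B → b ≠ 1 → g * b * g⁻¹ ∈ B → g ∈ B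

omit [Finite G] in
theorem IsBlock.conj {B : Subgroup G} (h : IsBlock B) (x : G) :
    IsBlock (B.map (MulAut.conj x).toMonoidHom) := by
  constructor
  · rintro _ ⟨a, ha, rfl⟩ _ ⟨b, hb, rfl⟩
    rw [← map_mul, ← map_mul, h.comm a ha b hb]
  · rintro g _ hg ⟨b, hb, rfl⟩ hb1 ⟨c, hc, e⟩
    refine ⟨x⁻¹ * g * x, h.ti _ b (by rwa [orderOf_conj']) hb (fun e => hb1 (by simp [e])) ?_, by
      simp [mul_assoc]⟩
    have e' : x * c * x⁻¹ = g * (x * b * x⁻¹) * g⁻¹ := e
    have : x⁻¹ * g * x * b * (x⁻¹ * g * x)⁻¹ = c := by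
      calc x⁻¹ * g * x * b * (x⁻¹ * g * x)⁻¹ = x⁻¹ * (g * (x * b * x⁻¹) * g⁻¹) * x := by group
        _ = c := by rw [← e']; group
    rw [this]
    exact hc

/-- In a group of odd order every non-trivial element of which has order `p` or lies in a block of
order prime to `p`, the elements killed by `p` form at most a Sylow subgroup. -/
theorem odd_count (p : ℕ) [Fact p.Prime] (H : Subgroup G) (hodd : Odd (Nat.card H))
    (hcov : ∀ h ∈ H, h ≠ 1 → h ^ p ≠ 1 →
      ∃ B : Subgroup G, IsBlock B ∧ ¬ p ∣ Nat.card B ∧ h ∈ B) :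
    (∃ P : Subgroup G, P ≤ H ∧ IsPGroup p P ∧ ∀ h ∈ H, h ^ p = 1 → h ∈ P) ∧
      ∀ B : Subgroup G, IsBlock B → ¬ p ∣ Nat.card B → H ⊓ B ≠ ⊥ →
        Nat.card {h : G // h ∈ H ∧ h ^ p = 1} * Nat.card (H ⊓ B : Subgroup G) = Nat.card H := by
  classical
  haveI := Fintype.ofFinite G
  have hoddg : ∀ g ∈ H, Odd (orderOf g) := fun g hg =>
    hodd.of_dvd_nat (Subgroup.orderOf_mk g hg ▸ orderOf_dvd_natCard (⟨g, hg⟩ : H))
  -- the union of conjugates within `H`
  let U : Subgroup G → Finset G := fun B =>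
    Finset.univ.filter fun h => h ≠ 1 ∧ h ∈ H ∧ ∃ g ∈ H, g⁻¹ * h * g ∈ B
  let S : Finset G := Finset.univ.filter fun h => h ∈ H ∧ h ^ p = 1
  have hUcard : ∀ B : Subgroup G, IsBlock B →
      (U B).card * Nat.card (H ⊓ B : Subgroup G) =
        Nat.card H * (Nat.card (H ⊓ B : Subgroup G) - 1) := by
    intro B hB
    have h := card_conj_union (G := H) ((H ⊓ B).subgroupOf H) ((H ⊓ B).subgroupOf H)
      (fun g hg b hb => mul_mem (mul_mem (inv_mem hg) hb) hg)
      (fun g b hb hb1 hgb => by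
        rw [Subgroup.mem_subgroupOf] at hb hgb ⊢
        exact ⟨g.2, hB.ti _ _ (hoddg _ g.2) hb.2 (fun e => hb1 (Subtype.ext e)) hgb.2⟩)
    rw [Nat.card_congr (Subgroup.subgroupOfEquivOfLe inf_le_left).toEquiv] at h
    rw [← h]
    congr 1
    rw [← Nat.card_eq_finsetCard]
    refine Nat.card_eq_of_bijective
      (fun x : U B => ⟨⟨x.1, (Finset.mem_filter.1 x.2).2.2.1⟩, ?_, ?_⟩) ⟨?_, ?_⟩
    · exact fun e => (Finset.mem_filter.1 x.2).2.1 (congrArg Subtype.val e)
    · obtain ⟨-, hxH, g, hg, hgB⟩ := (Finset.mem_filter.1 x.2).2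
      exact ⟨⟨g, hg⟩, Subgroup.mem_subgroupOf.2
        ⟨H.mul_mem (H.mul_mem (H.inv_mem hg) hxH) hg, hgB⟩⟩
    · intro a b e
      exact Subtype.ext (congrArg (fun z => ((z.1 : H) : G)) e)
    · rintro ⟨⟨x, hx⟩, hx1, g, hg⟩
      exact ⟨⟨x, Finset.mem_filter.2 ⟨Finset.mem_univ _, fun e => hx1 (Subtype.ext e), hx, g, g.2,
        (Subgroup.mem_subgroupOf.1 hg).2⟩⟩, rfl⟩
  have hdisj : ∀ B : Subgroup G, IsBlock B → ¬ p ∣ Nat.card B → Disjoint (U B) S := by
    intro B _ hp
    rw [Finset.disjoint_left]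
    intro h hU hS
    obtain ⟨-, h1, -, g, -, hgB⟩ := Finset.mem_filter.1 hU
    have hpow : (g⁻¹ * h * g) ^ p = 1 := by
      have := conj_pow (a := g⁻¹) (b := h) (i := p)
      rw [inv_inv] at this
      rw [this, (Finset.mem_filter.1 hS).2.2]; group
    have ho : orderOf (g⁻¹ * h * g) = p := orderOf_eq_prime hpow fun e => h1 (by
      have := congrArg (fun w => g * w * g⁻¹) e; simpa [mul_assoc] using this)
    exact hp (ho ▸ (Subgroup.orderOf_mk _ hgB ▸ orderOf_dvd_natCard (⟨_, hgB⟩ : B)))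
  -- blocks meeting in a non-trivial element agree within `H`
  have hagree : ∀ B B' : Subgroup G, IsBlock B → IsBlock B' → ∀ w ∈ H, w ≠ 1 → w ∈ B → w ∈ B' →
      H ⊓ B ≤ B' := by
    intro B B' hB hB' w hwH hw1 hw hw' v hv
    refine hB'.ti v w (hoddg v hv.1) hw' hw1 ?_
    rw [hB.comm v hv.2 w hw, mul_inv_cancel_right]
    exact hw'
  -- two unions cannot be disjoint
  have hall : ∀ B : Subgroup G, IsBlock B → ¬ p ∣ Nat.card B → H ⊓ B ≠ ⊥ →
      Finset.univ.filter (fun h => h ∈ H) ⊆ S ∪ U B := by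
    intro B hB hBp hne h hh
    have hhH := (Finset.mem_filter.1 hh).2
    rw [Finset.mem_union]
    by_contra hcon
    push Not at hcon
    obtain ⟨hS, hU⟩ := hcon
    have h1 : h ≠ 1 := fun e => hS (by simp [S, e])
    have hp' : h ^ p ≠ 1 := fun e => hS (by simp [S, e, hhH])
    obtain ⟨B', hB', hBp', hhB'⟩ := hcov h hhH h1 hp'
    have hne' : H ⊓ B' ≠ ⊥ := fun e => h1 (Subgroup.mem_bot.1 (e ▸ ⟨hhH, hhB'⟩))
    have hd : Disjoint (U B) (U B') := by
      rw [Finset.disjoint_left]
      intro z hz hz'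
      obtain ⟨-, hz1, hzH, g, hg, hgz⟩ := Finset.mem_filter.1 hz
      obtain ⟨-, -, -, g', hg', hgz'⟩ := Finset.mem_filter.1 hz'
      -- conjugate `B'` so that it contains the element in `B`
      have hB'' := hB'.conj (g⁻¹ * g')
      have hmem : g⁻¹ * z * g ∈ B'.map (MulAut.conj (g⁻¹ * g')).toMonoidHom :=
        ⟨g'⁻¹ * z * g', hgz', by simp [mul_assoc]⟩
      have hwH : g⁻¹ * z * g ∈ H := mul_mem (mul_mem (inv_mem hg) hzH) hg
      have hw1 : g⁻¹ * z * g ≠ 1 := fun e => hz1 (by
        have := congrArg (fun w => g * w * g⁻¹) e; simpa [mul_assoc] using this)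
      -- so the element `h` is conjugate into `B`
      have hh' : (g⁻¹ * g') * h * (g⁻¹ * g')⁻¹ ∈ B := by
        refine hagree _ B hB'' hB _ hwH hw1 hmem hgz ⟨?_, h, hhB', by simp [mul_assoc]⟩
        show _ ∈ H
        exact mul_mem (mul_mem (mul_mem (inv_mem hg) hg') hhH) (inv_mem (mul_mem (inv_mem hg) hg'))
      exact hU (Finset.mem_filter.2 ⟨Finset.mem_univ _, h1, hhH, (g⁻¹ * g')⁻¹,
        inv_mem (mul_mem (inv_mem hg) hg'), by simpa [mul_assoc] using hh'⟩)
    have hsub : U B ∪ U B' ⊆ (Finset.univ.filter (fun h => h ∈ H)).erase 1 := by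
      intro z hz
      rcases Finset.mem_union.1 hz with hz | hz <;>
      · obtain ⟨-, h1, h2, -⟩ := Finset.mem_filter.1 hz
        simp [h1, h2]
    have hc := Finset.card_le_card hsub
    rw [Finset.card_union_of_disjoint hd, Finset.card_erase_of_mem (by simp),
      show (Finset.univ.filter (fun h => h ∈ H)).card = Nat.card H by
        rw [Nat.card_eq_fintype_card, ← Fintype.card_subtype]] at hc
    have hbig : ∀ C : Subgroup G, IsBlock C → H ⊓ C ≠ ⊥ → 2 * Nat.card H ≤ 3 * (U C).card := by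
      intro C hC hCne
      have h1 := hUcard C hC
      have hge : 3 ≤ Nat.card (H ⊓ C : Subgroup G) := by
        obtain ⟨r, hr⟩ := hodd.of_dvd_nat
          (Subgroup.card_dvd_of_le (inf_le_left : H ⊓ C ≤ H))
        have hne1 : Nat.card (H ⊓ C : Subgroup G) ≠ 1 := fun e =>
          hCne (Subgroup.card_eq_one.1 e)
        omega
      generalize Nat.card (H ⊓ C : Subgroup G) = c at h1 hge
      obtain ⟨d, rfl⟩ : ∃ d, c = d + 3 := ⟨c - 3, by omega⟩
      rw [show d + 3 - 1 = d + 2 by omega] at h1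
      nlinarith
    have := hbig B hB hne
    have := hbig B' hB' hne'
    have := Nat.card_pos (α := H)
    omega
  have hScard : ∀ B : Subgroup G, IsBlock B → ¬ p ∣ Nat.card B → H ⊓ B ≠ ⊥ →
      S.card * Nat.card (H ⊓ B : Subgroup G) = Nat.card H := by
    intro B hB hBp hne
    have heq : Finset.univ.filter (fun h => h ∈ H) = S ∪ U B := by
      refine Finset.Subset.antisymm (hall B hB hBp hne) fun z hz => ?_
      rcases Finset.mem_union.1 hz with hz | hz
      · exact Finset.mem_filter.2 ⟨Finset.mem_univ _, (Finset.mem_filter.1 hz).2.1⟩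
      · exact Finset.mem_filter.2 ⟨Finset.mem_univ _, (Finset.mem_filter.1 hz).2.2.1⟩
    have h := congrArg Finset.card heq
    rw [Finset.card_union_of_disjoint (hdisj B hB hBp).symm, ← Fintype.card_subtype,
      ← Nat.card_eq_fintype_card] at h
    change Nat.card H = _ at h
    have h1 := hUcard B hB
    have h2 : 1 ≤ Nat.card (H ⊓ B : Subgroup G) := Nat.card_pos
    generalize Nat.card (H ⊓ B : Subgroup G) = c at h1 h2 ⊢
    obtain ⟨d, rfl⟩ : ∃ d, c = d + 1 := ⟨c - 1, by omega⟩
    rw [Nat.add_sub_cancel] at h1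
    nlinarith
  refine ⟨?_, fun B hB hBp hne => by
    rw [← hScard B hB hBp hne, Nat.card_eq_fintype_card, Fintype.card_subtype]⟩
  obtain ⟨P⟩ : Nonempty (Sylow p H) := inferInstance
  set P' := (P : Subgroup H).map H.subtype with hP'
  have hP'p : IsPGroup p P' := P.isPGroup'.map _
  refine ⟨P', Subgroup.map_subtype_le _, hP'p, fun h hh hp' => ?_⟩
  -- `P'` lies in `S` and `S` is not bigger
  have hPS : ∀ z ∈ P', z ^ p = 1 := by
    intro z hz
    by_contra hzp
    obtain ⟨B, hB, hBp, hzB⟩ := hcov z (Subgroup.map_subtype_le _ hz)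
      (fun e => hzp (by rw [e, one_pow])) hzp
    obtain ⟨i, hi⟩ := IsPGroup.iff_orderOf.1 hP'p ⟨z, hz⟩
    rw [Subgroup.orderOf_mk] at hi
    have hzdvd : orderOf z ∣ Nat.card B :=
      Subgroup.orderOf_mk z hzB ▸ orderOf_dvd_natCard (⟨z, hzB⟩ : B)
    rcases i with _ | i
    · rw [pow_zero, orderOf_eq_one_iff] at hi
      exact hzp (by rw [hi, one_pow])
    · exact hBp ((dvd_pow_self p (Nat.succ_ne_zero i)).trans (hi ▸ hzdvd))
  have hsub : Finset.univ.filter (fun z => z ∈ P') ⊆ S := fun z hz =>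
    Finset.mem_filter.2 ⟨Finset.mem_univ _, Subgroup.map_subtype_le _ (Finset.mem_filter.1 hz).2,
      hPS z (Finset.mem_filter.1 hz).2⟩
  have hle : S.card ≤ (Finset.univ.filter (fun z => z ∈ P')).card := by
    have hPc : (Finset.univ.filter (fun z => z ∈ P')).card =
        p ^ (Nat.card H).factorization p := by
      rw [← P.card_eq_multiplicity, ← Fintype.card_subtype, ← Nat.card_eq_fintype_card, hP']
      exact Subgroup.card_map_of_injective H.subtype_injective
    by_cases hex : ∃ z ∈ H, z ≠ 1 ∧ z ^ p ≠ 1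
    · obtain ⟨z, hzH, hz1, hzp⟩ := hex
      obtain ⟨B, hB, hBp, hzB⟩ := hcov z hzH hz1 hzp
      have hne : H ⊓ B ≠ ⊥ := fun e => hz1 (Subgroup.mem_bot.1 (e ▸ ⟨hzH, hzB⟩))
      have h1 := hScard B hB hBp hne
      -- the only prime divisor of `S.card` is `p`
      have hpr : ∀ r : ℕ, r.Prime → r ∣ S.card → r = p := by
        intro r hr hrS
        by_contra hrp
        haveI := Fact.mk hr
        have hrH : r ∣ Nat.card H := h1 ▸ hrS.mul_right _
        obtain ⟨R⟩ : Nonempty (Sylow r H) := inferInstance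
        haveI : Nontrivial (R : Subgroup H) :=
          (Subgroup.nontrivial_iff_ne_bot _).2 (R.ne_bot_of_dvd_card hrH)
        haveI := R.isPGroup'.center_nontrivial
        obtain ⟨⟨⟨⟨c, hcH⟩, hcR⟩, hc⟩, hc1⟩ :=
          exists_ne (1 : Subgroup.center (R : Subgroup H))
        have hc1' : c ≠ 1 := fun e => hc1 (Subtype.ext (Subtype.ext (Subtype.ext e)))
        obtain ⟨i, hi⟩ := IsPGroup.iff_orderOf.1 R.isPGroup' ⟨⟨c, hcH⟩, hcR⟩
        rw [Subgroup.orderOf_mk, Subgroup.orderOf_mk] at hi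
        have hcp : c ^ p ≠ 1 := fun e => by
          have h2 := orderOf_eq_prime e hc1'
          rw [hi] at h2
          have hi0 : i ≠ 0 := by
            rintro rfl; exact (Fact.out : p.Prime).one_lt.ne (by simpa using h2)
          exact hrp ((Nat.prime_dvd_prime_iff_eq hr Fact.out).1 (h2 ▸ dvd_pow_self r hi0))
        have hcU : c ∈ U B := by
          have := hall B hB hBp hne (Finset.mem_filter.2 ⟨Finset.mem_univ c, hcH⟩)
          rcases Finset.mem_union.1 this with h | h
          · exact absurd (Finset.mem_filter.1 h).2.2 hcp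
          · exact h
        obtain ⟨-, -, -, g, hg, hgB⟩ := Finset.mem_filter.1 hcU
        -- the Sylow subgroup lies in a conjugate of `B`
        have hRle : ∀ w : (R : Subgroup H), g⁻¹ * ((w : H) : G) * g ∈ H ⊓ B := by
          intro w
          have hwc : ((w : H) : G) * c = c * ((w : H) : G) :=
            congrArg (fun v : (R : Subgroup H) => ((v : H) : G)) (Subgroup.mem_center_iff.1 hc w)
          refine ⟨H.mul_mem (H.mul_mem (H.inv_mem hg) (w : H).2) hg, hB.ti _ _
            (hoddg _ (mul_mem (mul_mem (inv_mem hg) (w : H).2) hg)) hgB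
            (fun e => hc1' (by
              have := congrArg (fun v => g * v * g⁻¹) e; simpa [mul_assoc] using this)) ?_⟩
          have e : g⁻¹ * ((w : H) : G) * g * (g⁻¹ * c * g) * (g⁻¹ * ((w : H) : G) * g)⁻¹ =
              g⁻¹ * c * g := by
            calc g⁻¹ * ((w : H) : G) * g * (g⁻¹ * c * g) * (g⁻¹ * ((w : H) : G) * g)⁻¹
                = g⁻¹ * (((w : H) : G) * c) * ((w : H) : G)⁻¹ * g := by group
              _ = g⁻¹ * c * g := by rw [hwc]; group
          rw [e]; exact hgB
        let φ : (R : Subgroup H) →* (H ⊓ B : Subgroup G) :=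
          { toFun := fun w => ⟨g⁻¹ * ((w : H) : G) * g, hRle w⟩
            map_one' := Subtype.ext (by simp)
            map_mul' := fun v w => Subtype.ext (show g⁻¹ * (((v : H) : G) * ((w : H) : G)) * g =
              g⁻¹ * ((v : H) : G) * g * (g⁻¹ * ((w : H) : G) * g) by group) }
        have hinj : Function.Injective φ := fun v w e => by
          have := congrArg Subtype.val e
          exact Subtype.ext (Subtype.ext (mul_left_cancel (mul_right_cancel this)))
        have hdvd : Nat.card (R : Subgroup H) ∣ Nat.card (H ⊓ B : Subgroup G) :=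
          Subgroup.card_dvd_of_injective φ hinj
        rw [R.card_eq_multiplicity] at hdvd
        have h3 : r ^ ((Nat.card H).factorization r + 1) ∣ Nat.card H := by
          rw [pow_succ', ← h1]
          exact mul_dvd_mul hrS (h1.symm ▸ hdvd)
        have := (hr.pow_dvd_iff_le_factorization Nat.card_pos.ne').1 h3
        omega
      have hS0 : S.card ≠ 0 := fun e => by
        rw [e, zero_mul] at h1; exact Nat.card_pos.ne h1
      rw [hPc]
      obtain ⟨e, he⟩ : ∃ e, S.card = p ^ e :=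
        ⟨_, Nat.eq_prime_pow_of_unique_prime_dvd hS0 fun {d} hd hdS => hpr d hd hdS⟩
      rw [he]
      refine Nat.pow_le_pow_right (Fact.out : p.Prime).pos
        (((Fact.out : p.Prime).pow_dvd_iff_le_factorization Nat.card_pos.ne').1 ?_)
      rw [← he, ← h1]
      exact dvd_mul_right _ _
    · push Not at hex
      have hHp : IsPGroup p H := fun x => by
        refine ⟨1, Subtype.ext ?_⟩
        rw [pow_one, SubgroupClass.coe_pow, OneMemClass.coe_one]
        by_cases hx : (x : G) = 1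
        · rw [hx, one_pow]
        · exact hex x x.2 hx
      rw [hPc]
      obtain ⟨e, he⟩ := IsPGroup.iff_card.1 hHp
      rw [he, (Fact.out : p.Prime).factorization_pow, Finsupp.single_eq_same, ← he,
        Nat.card_eq_fintype_card, Fintype.card_subtype]
      exact Finset.card_le_card fun z hz =>
        Finset.mem_filter.2 ⟨Finset.mem_univ _, (Finset.mem_filter.1 hz).2.1⟩
  have := Finset.eq_of_subset_of_card_le hsub hle
  have hm : h ∈ S := Finset.mem_filter.2 ⟨Finset.mem_univ _, hh, hp'⟩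
  rw [← this] at hm
  exact (Finset.mem_filter.1 hm).2

end Cfsg.Agent.Invol.BSW
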