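import Cfsg.Agent.Lib.Invol.BSW.Basic

/-!
# Elements inverted by involutions

The number `F y` of involutions `u` with `u * y` an involution, and the centralizers of elements
outside the conjugates of `K` inverted by an involution.
-/

set_option autoImplicit false

namespace Cfsg.Agent.Invol.BSW

universe u

variable {G : Type u} [Group G]

/-- The number of ways to write `y` as a product of two involutions. -/
noncomputable def F (y : G) : ℕ := Nat.card {u : G // orderOf u = 2 ∧ orderOf (u * y) = 2}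

theorem mul_two_iff {u y : G} (hu : orderOf u = 2) :
    orderOf (u * y) = 2 ↔ u * y * u⁻¹ = y⁻¹ ∧ y ≠ u := by
  have huu := (orderOf_two_iff.1 hu).1
  rw [orderOf_two_iff, inv_self_of_two hu]
  constructor
  · rintro ⟨h1, h2⟩
    refine ⟨eq_inv_of_mul_eq_one_left (by rw [mul_assoc]; exact h1), fun e => h2 (e ▸ huu)⟩
  · rintro ⟨h1, h2⟩
    refine ⟨by rw [← mul_assoc, h1, inv_mul_cancel], fun e => h2 ?_⟩
    rw [eq_inv_of_mul_eq_one_right e, inv_self_of_two hu]

theorem F_conj (g y : G) : F (g * y * g⁻¹) = F y := by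
  refine (Nat.card_congr ((MulAut.conj g).toEquiv.subtypeEquiv fun u => ?_)).symm
  simp only [MulEquiv.toEquiv_eq_coe, EquivLike.coe_coe, MulAut.conj_apply, orderOf_conj]
  rw [show g * u * g⁻¹ * (g * y * g⁻¹) = g * (u * y) * g⁻¹ by group, orderOf_conj]

theorem F_pos_iff [Finite G] {y : G} :
    0 < F y ↔ ∃ u : G, orderOf u = 2 ∧ orderOf (u * y) = 2 := by
  rw [F, Nat.card_pos_iff]
  exact ⟨fun ⟨⟨u⟩, _⟩ => ⟨u.1, u.2⟩, fun ⟨u, hu⟩ => ⟨⟨⟨u, hu⟩⟩, inferInstance⟩⟩

theorem F_one [Finite G] {t s : G} {K : Subgroup G} (D : Hyp t s K) :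
    F (1 : G) = (Subgroup.centralizer ({t} : Set G)).index := by
  rw [F, ← D.card_two]
  exact Nat.card_congr (Equiv.subtypeEquivRight fun u => by simp)

theorem F_K [Finite G] {t s : G} {K : Subgroup G} (D : Hyp t s K) {x : G} (hx : x ∈ K)
    (hx1 : x ≠ 1) : F x = Nat.card K := by
  refine (Nat.card_eq_of_bijective (fun a : K => (⟨(a : G) * s, D.two_mul_s a.2, ?_⟩ :
    {u : G // orderOf u = 2 ∧ orderOf (u * x) = 2})) ⟨?_, ?_⟩).symm
  · rw [mul_two_iff (D.two_mul_s a.2)]
    refine ⟨D.comm_outside ?_ (fun h => D.sK ((mul_mem_cancel_left a.2).1 h)) hx, fun e => D.sK ?_⟩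
    · rw [mul_assoc, D.st, ← mul_assoc, D.KC _ a.2, mul_assoc]
    · exact (mul_mem_cancel_left a.2).1 (e ▸ hx)
  · intro a b h
    exact Subtype.ext (mul_right_cancel (congrArg Subtype.val h))
  · rintro ⟨u, hu, hux⟩
    obtain ⟨h1, h2⟩ := (mul_two_iff hu).1 hux
    have hut := D.inverter hx hx1 h1
    rcases D.cover u hut with huK | huK
    · exfalso
      have e := D.two_eq huK hu
      subst e
      have e2 := D.two_eq (mul_mem huK hx) hux
      exact hx1 (mul_left_cancel (e2.trans (mul_one u).symm))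
    · exact ⟨⟨u * s, huK⟩, Subtype.ext (by simp [mul_assoc, D.ss])⟩

namespace Hyp

variable {t s : G} {K : Subgroup G} (D : Hyp t s K) [Finite G]
include D

theorem ne_two {y u : G} (hy : ¬ ConjK K y) (hu : orderOf u = 2) : y ≠ u := fun e =>
  hy (D.conjK_two (e ▸ hu))

theorem F_pos_iff_inverted {y : G} (hy : ¬ ConjK K y) :
    0 < F y ↔ ∃ u : G, orderOf u = 2 ∧ u * y * u⁻¹ = y⁻¹ := by
  rw [F_pos_iff]
  exact exists_congr fun u => ⟨fun h => ⟨h.1, ((mul_two_iff h.1).1 h.2).1⟩,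
    fun h => ⟨h.1, (mul_two_iff h.1).2 ⟨h.2, D.ne_two hy h.1⟩⟩⟩

/-- An involution inverting `y` inverts the whole centralizer of `y`. -/
theorem inverts_cent {y u : G} (hy1 : y ≠ 1) (hy : ¬ ConjK K y) (hu : orderOf u = 2)
    (hinv : u * y * u⁻¹ = y⁻¹) {a : G} (ha : a * y = y * a) : u * a * u⁻¹ = a⁻¹ := by
  classical
  have huu := (orderOf_two_iff.1 hu).1
  set A := Subgroup.centralizer ({y} : Set G) with hA
  have hmem : ∀ b, b ∈ A ↔ b * y = y * b := fun b => Subgroup.mem_centralizer_singleton_iff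
  have hnorm : ∀ b ∈ A, u * b * u⁻¹ ∈ A := fun b hb => by
    rw [hmem] at hb ⊢
    have hb' : b * y⁻¹ = y⁻¹ * b := (Commute.inv_right (show Commute b y from hb)).eq
    have hy' : y = u * y⁻¹ * u⁻¹ := by
      rw [← hinv, inv_self_of_two hu]
      calc y = (u * u) * y * (u * u) := by rw [huu, one_mul, mul_one]
        _ = _ := by group
    calc u * b * u⁻¹ * y = u * b * u⁻¹ * (u * y⁻¹ * u⁻¹) := by rw [← hy']
      _ = u * (b * y⁻¹) * u⁻¹ := by group
      _ = u * (y⁻¹ * b) * u⁻¹ := by rw [hb']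
      _ = (u * y⁻¹ * u⁻¹) * (u * b * u⁻¹) := by group
      _ = y * (u * b * u⁻¹) := by rw [← hy']
  let φ : A →* A :=
    { toFun := fun b => ⟨u * b * u⁻¹, hnorm b b.2⟩
      map_one' := Subtype.ext (by simp)
      map_mul' := fun b c => Subtype.ext (show u * ((b : G) * c) * u⁻¹ =
        u * (b : G) * u⁻¹ * (u * (c : G) * u⁻¹) by group) }
  have h2 : Function.Involutive φ := fun b => Subtype.ext (show u * (u * (b : G) * u⁻¹) * u⁻¹ = b by
    rw [inv_self_of_two hu]
    calc u * (u * (b : G) * u) * u = (u * u) * b * (u * u) := by group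
      _ = b := by rw [huu, one_mul, mul_one])
  have hfpf : MonoidHom.FixedPointFree φ := by
    rintro ⟨b, hbA⟩ hb
    have hb' : u * b * u⁻¹ = b := congrArg Subtype.val hb
    refine Subtype.ext (by_contra fun hb1 : b ≠ 1 => ?_)
    obtain ⟨g, hg⟩ := isConj_iff.1 (D.conj t u D.ot hu)
    have e : g⁻¹ * u * g = t := by rw [← hg]; group
    have hbt : g⁻¹ * b * g * t = t * (g⁻¹ * b * g) := by
      rw [mul_inv_eq_iff_eq_mul] at hb'
      rw [← e]
      calc g⁻¹ * b * g * (g⁻¹ * u * g) = g⁻¹ * (b * u) * g := by group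
        _ = g⁻¹ * (u * b) * g := by rw [hb']
        _ = _ := by group
    by_cases hbK : g⁻¹ * b * g ∈ K
    · have hne : g⁻¹ * b * g ≠ 1 := fun h => hb1 (by
        have := congrArg (fun z => g * z * g⁻¹) h; simpa [mul_assoc] using this)
      have hc : g⁻¹ * y * g * (g⁻¹ * b * g) = (g⁻¹ * b * g) * (g⁻¹ * y * g) := by
        calc g⁻¹ * y * g * (g⁻¹ * b * g) = g⁻¹ * (y * b) * g := by group
          _ = g⁻¹ * (b * y) * g := by rw [(hmem b).1 hbA]
          _ = _ := by group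
      have hyt := D.cent_le hbK hne hc
      by_cases hyK : g⁻¹ * y * g ∈ K
      · exact hy ⟨g, hyK⟩
      · have := D.two_of_outside hyt hyK
        rw [orderOf_conj'] at this
        exact hy (D.conjK_two this)
    · have := D.two_of_outside hbt hbK
      rw [orderOf_conj'] at this
      exact D.no_two_cent hy1 hy this ((hmem b).1 hbA)
  exact congrArg Subtype.val (congrFun (hfpf.coe_eq_inv_of_involutive h2) ⟨a, (hmem a).2 ha⟩)

/-- The centralizer of `y` is commutative. -/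
theorem cent_comm {y : G} (hy1 : y ≠ 1) (hy : ¬ ConjK K y) (hF : 0 < F y) {a b : G}
    (ha : a * y = y * a) (hb : b * y = y * b) : a * b = b * a := by
  obtain ⟨u, hu, hinv⟩ := (D.F_pos_iff_inverted hy).1 hF
  have h1 := D.inverts_cent hy1 hy hu hinv ha
  have h2 := D.inverts_cent hy1 hy hu hinv hb
  have h3 := D.inverts_cent hy1 hy hu hinv (a := a * b) (by rw [mul_assoc, hb, ← mul_assoc, ha, mul_assoc])
  have h4 : a⁻¹ * b⁻¹ = (a * b)⁻¹ := by rw [← h1, ← h2, ← h3]; group
  have := congrArg Inv.inv h4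
  simpa using this.symm

/-- The centralizer of `y`. -/
theorem cent_eq {y z : G} (hy1 : y ≠ 1) (hy : ¬ ConjK K y) (hF : 0 < F y) (hz : z * y = y * z)
    (hz1 : z ≠ 1) : ¬ ConjK K z ∧ 0 < F z ∧
      Subgroup.centralizer ({z} : Set G) = Subgroup.centralizer ({y} : Set G) := by
  obtain ⟨u, hu, hinv⟩ := (D.F_pos_iff_inverted hy).1 hF
  have hzK : ¬ ConjK K z := by
    rintro ⟨g, hg⟩
    have hne : g⁻¹ * z * g ≠ 1 := fun h => hz1 (by
      have := congrArg (fun w => g * w * g⁻¹) h; simpa [mul_assoc] using this)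
    have hc : g⁻¹ * y * g * (g⁻¹ * z * g) = (g⁻¹ * z * g) * (g⁻¹ * y * g) := by
      calc g⁻¹ * y * g * (g⁻¹ * z * g) = g⁻¹ * (y * z) * g := by group
        _ = g⁻¹ * (z * y) * g := by rw [hz]
        _ = _ := by group
    have hyt := D.cent_le hg hne hc
    by_cases hyK : g⁻¹ * y * g ∈ K
    · exact hy ⟨g, hyK⟩
    · have := D.two_of_outside hyt hyK
      rw [orderOf_conj'] at this
      exact hy (D.conjK_two this)
  have hinvz := D.inverts_cent hy1 hy hu hinv hz
  have hFz : 0 < F z := (D.F_pos_iff_inverted hzK).2 ⟨u, hu, hinvz⟩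
  refine ⟨hzK, hFz, Subgroup.ext fun w => ?_⟩
  simp only [Subgroup.mem_centralizer_singleton_iff]
  exact ⟨fun hw => D.cent_comm hz1 hzK hFz hw hz.symm, fun hw => D.cent_comm hy1 hy hF hw hz⟩

/-- The number of factorisations is the order of the centralizer. -/
theorem F_eq_cent {y : G} (hy1 : y ≠ 1) (hy : ¬ ConjK K y) (hF : 0 < F y) :
    F y = Nat.card (Subgroup.centralizer ({y} : Set G)) := by
  obtain ⟨u, hu, hinv⟩ := (D.F_pos_iff_inverted hy).1 hF
  have hmem : ∀ b, b ∈ Subgroup.centralizer ({y} : Set G) ↔ b * y = y * b := fun b =>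
    Subgroup.mem_centralizer_singleton_iff
  have huu := (orderOf_two_iff.1 hu).1
  refine (Nat.card_eq_of_bijective (fun a : Subgroup.centralizer ({y} : Set G) =>
    (⟨u * (a : G), ?_, ?_⟩ : {v : G // orderOf v = 2 ∧ orderOf (v * y) = 2})) ⟨?_, ?_⟩).symm
  · have ha := D.inverts_cent hy1 hy hu hinv ((hmem a).1 a.2)
    refine orderOf_two_iff.2 ⟨?_, fun h => ?_⟩
    · rw [inv_self_of_two hu] at ha
      rw [← mul_assoc, ha, inv_mul_cancel]
    · exact D.no_two_cent hy1 hy hu (by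
        rw [← inv_self_of_two hu, ← eq_inv_of_mul_eq_one_right h]; exact (hmem _).1 a.2)
  · have ha := (hmem a).1 a.2
    have h3 : u * ((a : G) * y) * u⁻¹ = ((a : G) * y)⁻¹ :=
      D.inverts_cent hy1 hy hu hinv (by rw [← mul_assoc y, ← ha])
    rw [mul_assoc u (a : G) y]
    refine orderOf_two_iff.2 ⟨?_, fun h => ?_⟩
    · rw [inv_self_of_two hu] at h3
      rw [← mul_assoc, h3, inv_mul_cancel]
    · refine D.no_two_cent hy1 hy hu ?_
      have e : (a : G) * y = u := by rw [eq_inv_of_mul_eq_one_right h, inv_self_of_two hu]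
      rw [← e, ← mul_assoc y, ← ha]
  · intro a b h
    exact Subtype.ext (mul_left_cancel (congrArg Subtype.val h))
  · rintro ⟨v, hv, hvy⟩
    refine ⟨⟨u * v, (hmem _).2 ?_⟩, Subtype.ext (by simp [← mul_assoc, huu])⟩
    have h1 := ((mul_two_iff hv).1 hvy).1
    rw [inv_self_of_two hu] at hinv
    rw [inv_self_of_two hv] at h1
    have h4 : v * y = y⁻¹ * v := by
      rw [← h1, mul_assoc, (orderOf_two_iff.1 hv).1, mul_one]
    have h5 : u * y⁻¹ = y * u := by
      rw [← hinv, ← mul_assoc, ← mul_assoc, huu, one_mul]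
    calc u * v * y = u * (y⁻¹ * v) := by rw [mul_assoc, h4]
      _ = y * (u * v) := by rw [← mul_assoc, h5, mul_assoc]

/-- An element conjugate to its inverse outside the conjugates of `K` is inverted by an
involution. -/
theorem F_pos_of_conj_inv {y : G} (hy1 : y ≠ 1) (hy : ¬ ConjK K y) (h : IsConj y y⁻¹) :
    0 < F y := by
  obtain ⟨g, hg⟩ := isConj_iff.1 h
  have hodd := D.odd_cent hy1 hy
  set A := Subgroup.centralizer ({y} : Set G)
  have hne : y ≠ y⁻¹ := fun e => hy (D.conjK_two (orderOf_two_iff.2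
    ⟨by nth_rw 2 [e]; exact mul_inv_cancel y, hy1⟩))
  -- `g ^ |A|` still inverts `y`, its square is an element of `A` of order dividing a power of `g²`
  set m := Nat.card A
  have hsq : g ^ 2 ∈ A := by
    rw [Subgroup.mem_centralizer_singleton_iff, pow_two]
    have h2 : g * y⁻¹ * g⁻¹ = y := by rw [← conj_inv, hg, inv_inv]
    calc g * g * y = g * (g * y * g⁻¹) * g⁻¹ * (g * g) := by group
      _ = g * y⁻¹ * g⁻¹ * (g * g) := by rw [hg]
      _ = y * (g * g) := by rw [h2]
  have hpow : (g ^ m) ^ 2 = 1 := by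
    rw [← pow_mul, mul_comm, pow_mul]
    exact congrArg Subtype.val (pow_card_eq_one' (x := (⟨g ^ 2, hsq⟩ : A)))
  obtain ⟨j, hj⟩ := hodd
  have hm : g ^ m = (g ^ 2) ^ j * g := by rw [hj, pow_succ, pow_mul]
  have hconj : g ^ m * y * (g ^ m)⁻¹ = y⁻¹ := by
    have hc : ((g ^ 2) ^ j) * y⁻¹ = y⁻¹ * ((g ^ 2) ^ j) :=
      (Commute.inv_right (show Commute ((g ^ 2) ^ j) y from
        Subgroup.mem_centralizer_singleton_iff.1 (pow_mem hsq j))).eq
    rw [hm]
    calc (g ^ 2) ^ j * g * y * ((g ^ 2) ^ j * g)⁻¹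
        = (g ^ 2) ^ j * (g * y * g⁻¹) * ((g ^ 2) ^ j)⁻¹ := by group
      _ = y⁻¹ := by rw [hg, hc, mul_inv_cancel_right]
  exact (D.F_pos_iff_inverted hy).2 ⟨g ^ m, orderOf_two_iff.2 ⟨by rw [← pow_two, hpow],
    fun e => hne (by rw [e] at hconj; simpa using hconj)⟩, hconj⟩

end Hyp

end Cfsg.Agent.Invol.BSW
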