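import Cfsg.Agent.Lib.Invol.BSW.Normal

/-!
# The case `q = 2k - 1`: the inverted elements outside the conjugates of `K`
-/

set_option autoImplicit false

namespace Cfsg.Agent.Invol.BSW

universe u

variable {G : Type u} [Group G] {t s : G} {K : Subgroup G}

/-- A subgroup of order `k - 1` inverted by `t` carrying the inverted elements. -/
structure Torus (t : G) (K A : Subgroup G) : Prop where
  card : Nat.card A + 1 = Nat.card K
  comm : ∀ a ∈ A, ∀ b ∈ A, a * b = b * a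
  inverted : ∀ a ∈ A, t * a * t⁻¹ = a⁻¹
  out : ∀ a ∈ A, a ≠ 1 → ¬ ConjK K a ∧ 0 < F a
  ti : ∀ g a : G, a ∈ A → a ≠ 1 → g * a * g⁻¹ ∈ A → g ∈ A ∨ g * t ∈ A
  covers : ∀ z : G, z ≠ 1 → ¬ ConjK K z → 0 < F z → ∃ g : G, g⁻¹ * z * g ∈ A
  count : Nat.card {z : G // z ≠ 1 ∧ ¬ ConjK K z ∧ F z = 0} = 4 * Nat.card K * (Nat.card K - 1)

theorem f_eq_one {k f c a : ℕ} (hk : 2 < k) (ha : a = (k - 1) * c) (h : a = 1 + (k - 2) * f)
    (hf1 : 1 ≤ f) (hf : 2 * f ≤ k) : f = 1 ∧ a = k - 1 := by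
  obtain ⟨j, rfl⟩ : ∃ j, k = j + 2 := ⟨k - 2, by omega⟩
  rw [show j + 2 - 1 = j + 1 by omega] at ha ⊢
  rw [show j + 2 - 2 = j by omega] at h
  subst ha
  have h1 : (j + 1) * c + (f - 1) = (j + 1) * f := by
    have : (j + 1) * f = j * f + f := by ring
    omega
  have h2 : (j + 1) ∣ (f - 1) := (Nat.dvd_add_right ⟨c, rfl⟩).1 ⟨f, h1⟩
  have h3 : f - 1 = 0 := Nat.eq_zero_of_dvd_of_lt h2 (by omega)
  obtain rfl : f = 1 := by omega
  exact ⟨rfl, by linarith⟩

theorem Hyp.exists_torus [Finite G] (D : Hyp t s K)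
    (hn : (Subgroup.centralizer ({t} : Set G)).index =
      (Nat.card K - 1) * (2 * Nat.card K - 1))
    (hF : ∀ y : G, y ≠ 1 → ¬ ConjK K y → (Nat.card K - 1) ∣ F y) :
    ∃ A : Subgroup G, Torus t K A := by
  classical
  haveI := Fintype.ofFinite G
  set k := Nat.card K with hk
  set n := (Subgroup.centralizer ({t} : Set G)).index with hndef
  have hk2 : 2 ≤ k := Nat.le_of_dvd Nat.card_pos D.two_dvd_card
  have hg : Nat.card G = 2 * k * n := D.card_eq
  obtain ⟨e1, e2⟩ := D.others_eqs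
  rw [← hndef, ← hk] at e1 e2
  obtain ⟨j, hj⟩ : ∃ j, k = j + 2 := ⟨k - 2, by omega⟩
  have hn' : n = (j + 1) * (2 * j + 3) := by
    rw [hn, hj]
    congr 1
  have hsum : ∑ y ∈ others K, F y = n * k * j := by
    rw [hn', hj, show j + 2 - 1 = j + 1 by omega] at e2
    rw [hn', hj]
    nlinarith
  have hm : (others K).card + 1 = n * (k + 1) := by
    rw [hg] at e1
    have : n * (k - 1) + n * (k + 1) = 2 * k * n := by
      rw [← mul_add, show k - 1 + (k + 1) = 2 * k by omega]; ring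
    omega
  set E := (others K).filter (fun y => 0 < F y) with hE
  set R := (others K).filter (fun y => ¬ 0 < F y) with hR
  have hER : E.card + R.card = (others K).card := Finset.card_filter_add_card_filter_not _
  have hRcard : Nat.card {z : G // z ≠ 1 ∧ ¬ ConjK K z ∧ F z = 0} = R.card := by
    rw [Nat.card_eq_fintype_card, Fintype.card_subtype]
    congr 1
    ext z
    simp [hR, mem_others, and_assoc]
  have hsumE : ∑ y ∈ E, F y = n * k * j := by
    rw [← hsum]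
    refine Finset.sum_subset (Finset.filter_subset _ _) fun y hy hy' => ?_
    simpa [hE, hy] using hy'
  rcases Nat.eq_zero_or_pos j with hj0 | hjpos
  · -- `k = 2`
    subst hj0
    have hEe : E = ∅ := by
      by_contra hne
      obtain ⟨y, hy⟩ := Finset.nonempty_iff_ne_empty.2 hne
      have := Finset.single_le_sum (f := F) (fun _ _ => Nat.zero_le _) hy
      rw [hsumE, mul_zero] at this
      have := (Finset.mem_filter.1 hy).2
      omega
    refine ⟨⊥, ⟨by rw [Subgroup.card_bot]; omega, fun a ha b hb => ?_, fun a ha => ?_,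
      fun a ha h => absurd (Subgroup.mem_bot.1 ha) h, fun g a ha h => absurd (Subgroup.mem_bot.1 ha) h,
      fun z h1 h2 h3 => ?_, ?_⟩⟩
    · rw [Subgroup.mem_bot.1 ha, Subgroup.mem_bot.1 hb]
    · rw [Subgroup.mem_bot.1 ha]; simp
    · exact absurd (show z ∈ E from Finset.mem_filter.2 ⟨mem_others.2 ⟨h1, h2⟩, h3⟩) (by simp [hEe])
    · rw [hRcard]
      rw [hEe, Finset.card_empty, zero_add] at hER
      rw [hER]
      rw [hn', hj] at hm
      rw [← hk, hj]
      omega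
  -- `k > 2`
  have hk' : 2 < k := by omega
  have hEne : E.Nonempty := Finset.nonempty_iff_ne_empty.2 fun h => by
    rw [h, Finset.sum_empty] at hsumE
    have : 0 < n * k * j := by rw [hn']; positivity
    omega
  obtain ⟨y₀, hy₀⟩ := hEne
  obtain ⟨hy₀o, hy₀F⟩ := Finset.mem_filter.1 hy₀
  obtain ⟨hy₀1, hy₀K⟩ := mem_others.1 hy₀o
  obtain ⟨g₀, hinv⟩ := D.exists_inverted_by_t hy₀K hy₀F
  set y := g₀⁻¹ * y₀ * g₀ with hydef
  have hyc : y = g₀⁻¹ * y₀ * g₀⁻¹⁻¹ := by rw [inv_inv]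
  have hy1 : y ≠ 1 := by rw [hyc]; exact fun h => hy₀1 (conj_eq_one_iff.1 h)
  have hyK : ¬ ConjK K y := by rw [hyc, ConjK.conj_iff]; exact hy₀K
  have hypos : 0 < F y := by rw [hyc, F_conj]; exact hy₀F
  set A := Subgroup.centralizer ({y} : Set G) with hA
  have hAF : Nat.card A = F y := (D.F_eq_cent hy1 hyK hypos).symm
  obtain ⟨c, hc⟩ : (k - 1) ∣ Nat.card A := hAF ▸ hF y hy1 hyK
  have hsame : ∀ z, z ∈ A → z ≠ 1 → ¬ ConjK K z ∧ F z = Nat.card A ∧
      Subgroup.centralizer ({z} : Set G) = A := fun z hz hz1 => by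
    obtain ⟨h1, h2, h3⟩ := D.cent_eq hy1 hyK hypos (mem_cent.1 hz) hz1
    exact ⟨h1, by rw [D.F_eq_cent hz1 h1 h2, h3], h3⟩
  obtain ⟨p, hp, hpk⟩ := Nat.exists_prime_and_dvd (n := k - 1) (by omega)
  haveI := Fact.mk hp
  have hEset : ∀ z, z ∈ E ↔ z ≠ 1 ∧ ∃ g : G, g⁻¹ * z * g ∈ A := by
    intro z
    simp only [hE, Finset.mem_filter, mem_others]
    constructor
    · rintro ⟨⟨hz1, hzK⟩, hzF⟩
      exact ⟨hz1, D.cent_conj hy1 hyK hypos hz1 hzK hzF (p := p) (hc ▸ hpk.mul_right c)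
        (by rw [← D.F_eq_cent hz1 hzK hzF]; exact hpk.trans (hF z hz1 hzK))⟩
    · rintro ⟨hz1, g, hg'⟩
      have e : g⁻¹ * z * g = g⁻¹ * z * g⁻¹⁻¹ := by rw [inv_inv]
      obtain ⟨h1, h2, -⟩ := hsame _ hg' (by rw [e]; exact fun h => hz1 (conj_eq_one_iff.1 h))
      rw [e, ConjK.conj_iff] at h1
      rw [e, F_conj] at h2
      exact ⟨⟨hz1, h1⟩, h2 ▸ Nat.card_pos⟩
  have hFE : ∀ z ∈ E, F z = Nat.card A := by
    intro z hz
    obtain ⟨hz1, g, hg'⟩ := (hEset z).1 hz
    have e : g⁻¹ * z * g = g⁻¹ * z * g⁻¹⁻¹ := by rw [inv_inv]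
    have h2 := (hsame _ hg' (by rw [e]; exact fun h => hz1 (conj_eq_one_iff.1 h))).2.1
    rwa [e, F_conj] at h2
  set N := Subgroup.normalizer (A : Set G) with hN
  have hcu := card_conj_union A N
      (fun g hg' b hb => (Subgroup.mem_normalizer_iff.1 hg' _).2 (by simpa [mul_assoc] using hb))
      (fun g b hb hb1 hgb => D.ti_normalizer hy1 hyK hypos hb hb1 hgb)
  rw [show Nat.card {z : G // z ≠ 1 ∧ ∃ g : G, g⁻¹ * z * g ∈ A} = E.card by
    rw [Nat.card_eq_fintype_card, Fintype.card_subtype]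
    congr 1
    ext z
    simp [hEset]] at hcu
  -- the normalizer
  have hinvA : ∀ a ∈ A, t * a * t⁻¹ = a⁻¹ := fun a ha =>
    D.inverts_cent hy1 hyK D.ot hinv (mem_cent.1 ha)
  have ht2 : ∀ w : G, t * (t * w * t⁻¹) * t⁻¹ = w := fun w => by
    rw [inv_self_of_two D.ot]
    calc t * (t * w * t) * t = (t * t) * w * (t * t) := by group
      _ = w := by rw [D.tt, one_mul, mul_one]
  have htN : t ∈ N := Subgroup.mem_normalizer_iff.2 fun w => by
    constructor
    · intro hw; rw [hinvA w hw]; exact inv_mem hw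
    · intro hw
      have h2 := hinvA _ hw
      rw [ht2] at h2
      rw [h2]
      exact inv_mem hw
  have hinter : ∀ d ∈ N, d * t = t * d → d ∈ K := fun d hd hdt =>
    D.normalizer_inter hy1 hyK hinv hd hdt
  set L := N ⊓ K with hL
  let f : A × L → N := fun p => ⟨p.1 * p.2,
    mul_mem (Subgroup.le_normalizer p.1.2) (show (p.2 : G) ∈ N ⊓ K from p.2.2).1⟩
  have hf : Function.Bijective f := by
    constructor
    · rintro ⟨a, l⟩ ⟨a', l'⟩ h
      have h' : (a : G) * l = (a' : G) * l' := congrArg Subtype.val h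
      have h2 : (a' : G)⁻¹ * a = (l' : G) * (l : G)⁻¹ := by
        rw [eq_mul_inv_iff_mul_eq, mul_assoc, h', inv_mul_cancel_left]
      have h3 : (a' : G)⁻¹ * a = 1 := by
        by_contra hne
        refine (hsame _ (mul_mem (inv_mem a'.2) a.2) hne).1 ⟨1, ?_⟩
        rw [inv_one, one_mul, mul_one, h2]
        exact (mul_mem l'.2 (inv_mem l.2) : _ ∈ N ⊓ K).2
      rw [h3] at h2
      exact Prod.ext (Subtype.ext (inv_mul_eq_one.1 h3).symm)
        (Subtype.ext (mul_inv_eq_one.1 h2.symm).symm)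
    · rintro ⟨g, hg'⟩
      obtain ⟨a, ha, hat⟩ := D.normalizer_decomp hy1 hyK hinv hg'
      have hagN : a * g ∈ N := mul_mem (Subgroup.le_normalizer ha) hg'
      exact ⟨(⟨a⁻¹, inv_mem ha⟩, ⟨a * g, hagN, hinter _ hagN hat⟩), Subtype.ext (by simp [f])⟩
  have hNc : Nat.card A * Nat.card L = Nat.card N := by
    rw [← Nat.card_prod, Nat.card_eq_of_bijective f hf]
  have hLd : Nat.card L ∣ k := Subgroup.card_dvd_of_le inf_le_right
  obtain ⟨f', hf'⟩ : 2 ∣ Nat.card L := by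
    have h := orderOf_dvd_natCard (G := L) (⟨t, htN, D.tK⟩ : L)
    have h3 : orderOf (⟨t, htN, D.tK⟩ : L) = 2 := by rw [← Subgroup.orderOf_coe]; exact D.ot
    rwa [h3] at h
  have hsA : E.card * Nat.card A = n * k * j := by
    rw [← hsumE, Finset.sum_const_nat hFE]
  have hAeq : Nat.card A = 1 + j * f' := by
    rw [hg, ← hNc, ← mul_assoc, hsA, hf'] at hcu
    have hpos : 0 < 2 * k * n := hg ▸ Nat.card_pos
    have : j * f' = Nat.card A - 1 := by
      apply Nat.eq_of_mul_eq_mul_left hpos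
      rw [← hcu]; ring
    have := Nat.card_pos (α := A)
    omega
  obtain ⟨hf1, hAk⟩ := f_eq_one hk' hc (by rw [hAeq, hj, Nat.add_sub_cancel])
    (by have := Nat.card_pos (α := L); omega)
    (by have := Nat.le_of_dvd (by omega) hLd; omega)
  rw [hf1, mul_one] at hf'
  have hEc : E.card = k * j * (2 * j + 3) := by
    rw [hAk, hn', hj, show j + 2 - 1 = j + 1 by omega] at hsA
    rw [hj]
    refine Nat.eq_of_mul_eq_mul_right (show 0 < j + 1 by omega) (hsA.trans ?_)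
    ring
  refine ⟨A, ⟨by rw [hAk]; omega, fun a ha b hb =>
    D.cent_comm hy1 hyK hypos (mem_cent.1 ha) (mem_cent.1 hb), hinvA, fun a ha ha1 => ?_, ?_,
    fun z h1 h2 h3 => ((hEset z).1 (Finset.mem_filter.2 ⟨mem_others.2 ⟨h1, h2⟩, h3⟩)).2, ?_⟩⟩
  · obtain ⟨h1, h2, -⟩ := hsame a ha ha1
    exact ⟨h1, h2 ▸ Nat.card_pos⟩
  · intro g a ha ha1 hga
    obtain ⟨b, hb, hbt⟩ := D.normalizer_decomp hy1 hyK hinv
      (D.ti_normalizer hy1 hyK hypos ha ha1 hga)
    have hbg : b * g ∈ L := ⟨mul_mem (Subgroup.le_normalizer hb)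
      (D.ti_normalizer hy1 hyK hypos ha ha1 hga), hinter _
      (mul_mem (Subgroup.le_normalizer hb) (D.ti_normalizer hy1 hyK hypos ha ha1 hga)) hbt⟩
    have h2 : (b * g) ^ 2 = 1 := by
      rw [← hf']
      exact congrArg Subtype.val (pow_card_eq_one' (x := (⟨b * g, hbg⟩ : L)))
    by_cases h1 : b * g = 1
    · exact Or.inl (by rw [eq_inv_of_mul_eq_one_right h1]; exact inv_mem hb)
    · right
      have e := D.two_eq hbg.2 (orderOf_eq_prime h2 h1)
      rw [show g * t = b⁻¹ by rw [← mul_right_inj b, ← mul_assoc, e, D.tt, mul_inv_cancel]]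
      exact inv_mem hb
  · rw [hRcard, ← hk]
    rw [hn', hj] at hm
    rw [hEc, hj] at hER
    rw [hj, show j + 2 - 1 = j + 1 by omega]
    linarith

end Cfsg.Agent.Invol.BSW
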