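import Cfsg.Agent.Lib.Invol.BSW.MinusR

/-!
# The case `q = 2k - 1`: conclusion
-/

set_option autoImplicit false

namespace Cfsg.Agent.Invol.BSW

universe u

variable {G : Type u} [Group G] {t s : G} {K A : Subgroup G} [Finite G]

namespace Data

variable (M : Data t s K A)
include M

/-- A non-trivial `p`-subgroup has normalizer of odd order. -/
theorem normalizer_odd {p : ℕ} [hp : Fact p.Prime] (hpK : ¬ p ∣ 2 * Nat.card K * Nat.card A)
    (T : Subgroup G) (hT : IsPGroup p T) (hT1 : T ≠ ⊥) :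
    Odd (Nat.card (Subgroup.normalizer (T : Set G))) := by
  rw [← Nat.not_even_iff_odd, even_iff_two_dvd]
  intro h
  haveI : Fact (Nat.Prime 2) := ⟨Nat.prime_two⟩
  obtain ⟨⟨u, hu⟩, hu2⟩ := exists_prime_orderOf_dvd_card' 2 h
  rw [Subgroup.orderOf_mk] at hu2
  have huu := (orderOf_two_iff.1 hu2).1
  have hmem : ∀ x ∈ T, u * x * u⁻¹ ∈ T := fun x hx => (Subgroup.mem_normalizer_iff.1 hu x).1 hx
  let φ : T →* T :=
    { toFun := fun x => ⟨u * x * u⁻¹, hmem x x.2⟩
      map_one' := Subtype.ext (by simp)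
      map_mul' := fun x y => Subtype.ext (show u * ((x : G) * y) * u⁻¹ =
        u * (x : G) * u⁻¹ * (u * (y : G) * u⁻¹) by group) }
  have h2 : Function.Involutive φ := fun x => Subtype.ext (show u * (u * (x : G) * u⁻¹) * u⁻¹ = x by
    rw [inv_self_of_two hu2]
    calc u * (u * (x : G) * u) * u = (u * u) * x * (u * u) := by group
      _ = x := by rw [huu, one_mul, mul_one])
  have hout : ∀ x : T, x ≠ 1 → (x : G) ≠ 1 ∧ ¬ ConjK K (x : G) := by
    intro x hx
    have hx1 : (x : G) ≠ 1 := fun e => hx (Subtype.ext e)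
    refine ⟨hx1, fun ⟨g, hg⟩ => ?_⟩
    obtain ⟨i, hi⟩ := IsPGroup.iff_orderOf.1 hT x
    rw [← Subgroup.orderOf_coe, ← orderOf_conj' g] at hi
    rcases i with _ | i
    · rw [pow_zero, orderOf_conj', orderOf_eq_one_iff] at hi; exact hx1 hi
    · have : orderOf (g⁻¹ * (x : G) * g) ∣ Nat.card K :=
        Subgroup.orderOf_mk _ hg ▸ orderOf_dvd_natCard (⟨_, hg⟩ : K)
      exact hpK ((((dvd_pow_self p (Nat.succ_ne_zero i)).trans (hi ▸ this)).mul_left 2).mul_right _)
  have hfpf : MonoidHom.FixedPointFree φ := by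
    intro x hx
    by_contra hne
    obtain ⟨h1, h2⟩ := hout x hne
    have hx' : u * (x : G) * u⁻¹ = x := congrArg Subtype.val hx
    exact M.hyp.no_two_cent h1 h2 hu2 (mul_inv_eq_iff_eq_mul.1 hx')
  haveI := (Subgroup.nontrivial_iff_ne_bot T).2 hT1
  obtain ⟨x, hx⟩ := exists_ne (1 : T)
  obtain ⟨h1, h2'⟩ := hout x hx
  have hinv : u * (x : G) * u⁻¹ = (x : G)⁻¹ :=
    congrArg Subtype.val (congrFun (hfpf.coe_eq_inv_of_involutive h2) x)
  have hpos : 0 < F (x : G) := (M.hyp.F_pos_iff_inverted h2').2 ⟨u, hu2, hinv⟩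
  obtain ⟨g, hg⟩ := M.torus.covers _ h1 h2' hpos
  obtain ⟨i, hi⟩ := IsPGroup.iff_orderOf.1 hT x
  rw [← Subgroup.orderOf_coe, ← orderOf_conj' g] at hi
  rcases i with _ | i
  · rw [pow_zero, orderOf_conj', orderOf_eq_one_iff] at hi; exact h1 hi
  · have : orderOf (g⁻¹ * (x : G) * g) ∣ Nat.card A :=
      Subgroup.orderOf_mk _ hg ▸ orderOf_dvd_natCard (⟨_, hg⟩ : A)
    exact hpK (((dvd_pow_self p (Nat.succ_ne_zero i)).trans (hi ▸ this)).mul_left _)

theorem cover_odd {p : ℕ} [hp : Fact p.Prime] (hpK : ¬ p ∣ 2 * Nat.card K * Nat.card A)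
    (hR : ∀ y : G, y ≠ 1 → ¬ ConjK K y → F y = 0 → y ^ p = 1) (h : G) (h1 : h ≠ 1)
    (hhp : h ^ p ≠ 1) : ∃ B : Subgroup G, IsBlock B ∧ ¬ p ∣ Nat.card B ∧ h ∈ B := by
  rcases M.conj_cases h1 with ⟨g, hg⟩ | ⟨g, hg⟩ | ⟨h2, h3⟩
  · refine ⟨_, (isBlock_K M.hyp).conj g, ?_, ⟨_, hg, by simp [mul_assoc]⟩⟩
    rw [Subgroup.card_map_of_injective (MulAut.conj g).injective]
    exact fun e => hpK ((e.mul_left 2).mul_right _)
  · refine ⟨_, (isBlock_torus M.hyp M.torus).conj g, ?_, ⟨_, hg, by simp [mul_assoc]⟩⟩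
    rw [Subgroup.card_map_of_injective (MulAut.conj g).injective]
    exact fun e => hpK (e.mul_left _)
  · exact absurd (hR h h1 h2 h3) hhp

theorem conclude : Concl G := by
  classical
  haveI := Fintype.ofFinite G
  obtain ⟨j, hj, hjA, hG⟩ := M.exists_k
  obtain ⟨p, hp', hpK, hnr⟩ := M.nonreal
  haveI := Fact.mk hp'
  have hR : ∀ y : G, y ≠ 1 → ¬ ConjK K y → F y = 0 → y ^ p = 1 := fun y a b c => (hnr y a b c).2.1
  have hq : 2 * Nat.card K - 1 = 2 * j + 3 := by omega
  -- a non-real element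
  have hcnt := M.torus.count
  rw [hj, show j + 2 - 1 = j + 1 by omega] at hcnt
  obtain ⟨⟨y₀, hy₀1, hy₀K, hy₀0⟩⟩ :
      Nonempty {z : G // z ≠ 1 ∧ ¬ ConjK K z ∧ F z = 0} :=
    (Nat.card_pos_iff.1 (by rw [hcnt]; positivity)).1
  obtain ⟨hc₀, -, hp₀, hall₀⟩ := hnr y₀ hy₀1 hy₀K hy₀0
  rw [hq] at hc₀
  -- non-trivial `p`-elements are non-real
  have hpel : ∀ x : G, x ≠ 1 → x ^ p = 1 → ¬ ConjK K x ∧ F x = 0 := by
    intro x hx1 hxp
    have ho := orderOf_eq_prime hxp hx1
    rcases M.conj_cases hx1 with ⟨g, hg⟩ | ⟨g, hg⟩ | h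
    · exfalso
      have : p ∣ Nat.card K := by
        rw [← ho, ← orderOf_conj' g]
        exact Subgroup.orderOf_mk _ hg ▸ orderOf_dvd_natCard (⟨_, hg⟩ : K)
      exact hpK ((this.mul_left 2).mul_right _)
    · exfalso
      have : p ∣ Nat.card A := by
        rw [← ho, ← orderOf_conj' g]
        exact Subgroup.orderOf_mk _ hg ▸ orderOf_dvd_natCard (⟨_, hg⟩ : A)
      exact hpK (this.mul_left _)
    · exact h
  -- Sylow subgroups
  obtain ⟨e, he⟩ := IsPGroup.iff_card.1 hp₀
  rw [hc₀] at he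
  have hmult : p ^ (Nat.card G).factorization p = 2 * j + 3 := by
    rw [hG, Nat.factorization_mul (by positivity) (by omega), he, hp'.factorization_pow]
    simp only [Finsupp.coe_add, Pi.add_apply, Finsupp.single_eq_same]
    rw [Nat.factorization_eq_zero_of_not_dvd (by rw [← hjA, ← hj]; exact hpK), zero_add]
  have hsyl : ∀ P : Subgroup G, IsPGroup p P → Nat.card P ≤ 2 * j + 3 := fun P hP => by
    obtain ⟨S, hS⟩ := hP.exists_le_sylow
    have := Subgroup.card_le_of_le hS
    rwa [S.card_eq_multiplicity, hmult] at this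
  -- trivial intersection
  have hti : ∀ (d : ℕ) (P Q : Subgroup G), IsPGroup p P → IsPGroup p Q →
      Nat.card P = 2 * j + 3 → Nat.card Q = 2 * j + 3 → P ⊓ Q ≠ ⊥ →
      2 * j + 3 ≤ Nat.card (P ⊓ Q : Subgroup G) + d → P = Q := by
    intro d
    induction d with
    | zero =>
      intro P Q _ _ hPc hQc _ hd
      have h1 : P ⊓ Q = P := Subgroup.eq_of_le_of_card_ge inf_le_left (by omega)
      have h2 : P ⊓ Q = Q := Subgroup.eq_of_le_of_card_ge inf_le_right (by omega)
      exact h1.symm.trans h2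
    | succ d ih =>
      intro P Q hP hQ hPc hQc hne hd
      by_cases hfull : Nat.card (P ⊓ Q : Subgroup G) = 2 * j + 3
      · exact ih P Q hP hQ hPc hQc hne (by omega)
      have hlt : Nat.card (P ⊓ Q : Subgroup G) < 2 * j + 3 := by
        have := Subgroup.card_le_of_le (inf_le_left : P ⊓ Q ≤ P)
        omega
      set T := P ⊓ Q with hT
      set N := Subgroup.normalizer (T : Set G)
      have hNodd := M.normalizer_odd hpK T (hP.to_le inf_le_left) hne
      obtain ⟨S, hSN, hSp, hS⟩ :=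
        (odd_count p N hNodd fun h _ h1 hhp => M.cover_odd hpK hR h h1 hhp).1
      obtain ⟨U, hU⟩ := hSp.exists_le_sylow
      have hUc : Nat.card (U : Subgroup G) = 2 * j + 3 := by rw [U.card_eq_multiplicity, hmult]
      -- both contain a larger subgroup normalizing `T`
      have grow : ∀ P' : Subgroup G, IsPGroup p P' → Nat.card P' = 2 * j + 3 → T ≤ P' →
          P' = (U : Subgroup G) := by
        intro P' hP' hP'c hTP
        haveI := hP'.isNilpotent
        have hne' : T.subgroupOf P' < ⊤ := by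
          rw [lt_top_iff_ne_top, Ne, Subgroup.subgroupOf_eq_top]
          intro h
          have h5 : Nat.card P' ≤ Nat.card T := Subgroup.card_le_of_le h
          omega
        have hlt' := normalizerCondition_of_isNilpotent _ hne'
        obtain ⟨⟨x, hxP⟩, hx, hxT⟩ := SetLike.exists_of_lt hlt'
        have hxN : x ∈ N := by
          refine Subgroup.mem_normalizer_iff.2 fun w => ?_
          have key := fun (v : P') => Subgroup.mem_normalizer_iff.1 hx v
          constructor
          · intro hw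
            have := (key ⟨w, hTP hw⟩).1 (Subgroup.mem_subgroupOf.2 hw)
            exact Subgroup.mem_subgroupOf.1 this
          · intro hw
            have hwP : w ∈ P' := by
              have := mul_mem (mul_mem (inv_mem hxP) (hTP hw)) hxP
              simpa [mul_assoc] using this
            exact Subgroup.mem_subgroupOf.1 ((key ⟨w, hwP⟩).2 (Subgroup.mem_subgroupOf.2 hw))
        have hpw : ∀ v ∈ P', v ∈ N → v ∈ (U : Subgroup G) := by
          intro v hvP hvN
          refine hU (hS v hvN ?_)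
          by_contra hvp
          have hv1 : v ≠ 1 := fun e => hvp (by rw [e, one_pow])
          obtain ⟨B, -, hBp, hvB⟩ := M.cover_odd hpK hR v hv1 hvp
          obtain ⟨i, hi⟩ := IsPGroup.iff_orderOf.1 hP' ⟨v, hvP⟩
          rw [Subgroup.orderOf_mk] at hi
          rcases i with _ | i
          · rw [pow_zero, orderOf_eq_one_iff] at hi; exact hv1 hi
          · have : orderOf v ∣ Nat.card B :=
              Subgroup.orderOf_mk v hvB ▸ orderOf_dvd_natCard (⟨v, hvB⟩ : B)
            exact hBp ((dvd_pow_self p (Nat.succ_ne_zero i)).trans (hi ▸ this))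
        have hTN : T ≤ N := Subgroup.le_normalizer
        have hTU : T ≤ P' ⊓ (U : Subgroup G) := fun v hv => ⟨hTP hv, hpw v (hTP hv) (hTN hv)⟩
        have hxU : x ∈ P' ⊓ (U : Subgroup G) := ⟨hxP, hpw x hxP hxN⟩
        have hlt2 : T < P' ⊓ (U : Subgroup G) :=
          lt_of_le_of_ne hTU fun e => hxT (Subgroup.mem_subgroupOf.2 (e ▸ hxU))
        have hcard : Nat.card T < Nat.card (P' ⊓ (U : Subgroup G) : Subgroup G) := by
          by_contra hh
          exact hlt2.ne (Subgroup.eq_of_le_of_card_ge hTU (by omega))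
        refine ih P' U hP' U.isPGroup' hP'c hUc (fun e => hne ?_) (by omega)
        exact le_bot_iff.1 (e ▸ hTU)
      exact (grow P hP hPc inf_le_left).trans (grow Q hQ hQc inf_le_right).symm
  -- centralizers of non-real elements are the subgroups of order `q`
  have hcent : ∀ y : G, y ≠ 1 → ¬ ConjK K y → F y = 0 →
      ∀ x ∈ Subgroup.centralizer ({y} : Set G), x ≠ 1 →
        Subgroup.centralizer ({x} : Set G) = Subgroup.centralizer ({y} : Set G) := by
    intro y hy1 hyK hy0 x hx hx1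
    obtain ⟨hxK, hx0⟩ := M.cent_R hy1 hyK hy0 (mem_cent.1 hx) hx1
    obtain ⟨c1, -, p1, -⟩ := hnr y hy1 hyK hy0
    obtain ⟨c2, -, p2, -⟩ := hnr x hx1 hxK hx0
    rw [hq] at c1 c2
    refine hti (2 * j + 3) _ _ p2 p1 c2 c1 ?_ (by omega)
    exact fun e => hx1 (Subgroup.mem_bot.1 (e ▸ ⟨mem_cent.2 rfl, hx⟩))
  -- the normalizer
  have hnorm : ∀ y : G, y ≠ 1 → ¬ ConjK K y → F y = 0 →
      Nat.card (Subgroup.normalizer (Subgroup.centralizer ({y} : Set G) : Set G)) =
        (j + 1) * (2 * j + 3) := by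
    intro y hy1 hyK hy0
    obtain ⟨c1, -, p1, hall⟩ := hnr y hy1 hyK hy0
    rw [hq] at c1
    set Q := Subgroup.centralizer ({y} : Set G) with hQ
    have h := card_conj_union Q (Subgroup.normalizer (Q : Set G))
      (fun g hg b hb => (Subgroup.mem_normalizer_iff.1 hg _).2 (by simpa [mul_assoc] using hb))
      (fun g b hb hb1 hgb => Subgroup.mem_normalizer_iff.2 fun w => by
        have h1 := hcent y hy1 hyK hy0 b hb hb1
        have h2 := hcent y hy1 hyK hy0 _ hgb (fun e => hb1 (conj_eq_one_iff.1 e))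
        constructor
        · intro hw
          rw [hQ, ← h2]; rw [hQ, ← h1] at hw
          exact (conj_mem_cent_iff g w).2 hw
        · intro hw
          rw [hQ, ← h2] at hw; rw [hQ, ← h1]
          exact (conj_mem_cent_iff g w).1 hw)
    have hu : Nat.card {z : G // z ≠ 1 ∧ ∃ g : G, g⁻¹ * z * g ∈ Q} = 4 * (j + 2) * (j + 1) := by
      rw [← hcnt]
      refine Nat.card_congr (Equiv.subtypeEquivRight fun z => ?_)
      constructor
      · rintro ⟨hz1, g, hg⟩
        have e : g⁻¹ * z * g = g⁻¹ * z * g⁻¹⁻¹ := by rw [inv_inv]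
        obtain ⟨h1, h2⟩ := M.cent_R hy1 hyK hy0 (mem_cent.1 hg)
          (by rw [e]; exact fun h => hz1 (conj_eq_one_iff.1 h))
        rw [e, ConjK.conj_iff] at h1
        rw [e, F_conj] at h2
        exact ⟨hz1, h1, h2⟩
      · rintro ⟨hz1, hzK, hz0⟩
        refine ⟨hz1, ?_⟩
        rcases hall z hz1 hzK hz0 with h | h <;> obtain ⟨g, rfl⟩ := isConj_iff.1 h <;>
          refine ⟨g, ?_⟩
        · have : g⁻¹ * (g * y * g⁻¹) * g = y := by group
          rw [this]; exact mem_cent.2 rfl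
        · have : g⁻¹ * (g * y⁻¹ * g⁻¹) * g = y⁻¹ := by group
          rw [this]; exact inv_mem (mem_cent.2 rfl)
    rw [hu, c1, hG, show 2 * j + 3 - 1 = 2 * (j + 1) by omega] at h
    refine Nat.eq_of_mul_eq_mul_left (show 0 < 4 * (j + 2) * (j + 1) by positivity) (h.trans ?_)
    ring
  -- a conjugate of the torus normalizes
  obtain ⟨g, hg⟩ : ∃ g : G, ∀ a ∈ A, g * a * g⁻¹ ∈
      Subgroup.normalizer (Subgroup.centralizer ({y₀} : Set G) : Set G) := by
    set N := Subgroup.normalizer (Subgroup.centralizer ({y₀} : Set G) : Set G)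
    have hNc := hnorm y₀ hy₀1 hy₀K hy₀0
    by_cases hA1 : Nat.card A = 1
    · refine ⟨1, fun a ha => ?_⟩
      have h6 := ha
      rw [Subgroup.card_eq_one.1 hA1, Subgroup.mem_bot] at h6
      rw [h6]
      simp
    obtain ⟨r, hr, hrA⟩ := Nat.exists_prime_and_dvd hA1
    haveI := Fact.mk hr
    obtain ⟨⟨h, hhN⟩, hh⟩ := exists_prime_orderOf_dvd_card' r
      (show r ∣ Nat.card N by rw [hNc, ← hjA]; exact hrA.mul_right _)
    rw [Subgroup.orderOf_mk] at hh
    have hh1 : h ≠ 1 := fun e => by rw [e, orderOf_one] at hh; exact hr.one_lt.ne hh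
    have hrp : r ≠ p := fun e => hpK (e ▸ hrA.mul_left _)
    rcases M.conj_cases hh1 with ⟨g, hgK⟩ | ⟨g, hgA⟩ | ⟨h2, h3⟩
    · exfalso
      have hrK : r ∣ j + 2 := by
        rw [← hj, ← hh, ← orderOf_conj' g]
        exact Subgroup.orderOf_mk _ hgK ▸ orderOf_dvd_natCard (⟨_, hgK⟩ : K)
      rw [hjA] at hrA
      exact hr.not_dvd_one ((Nat.dvd_add_right hrA).1 (show r ∣ (j + 1) + 1 from hrK))
    · refine ⟨g, fun a ha => ?_⟩
      have hNodd : Odd (Nat.card N) := M.normalizer_odd hpK _ hp₀ fun e => by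
        have h5 : y₀ ∈ Subgroup.centralizer ({y₀} : Set G) := mem_cent.2 rfl
        rw [e] at h5
        exact hy₀1 (Subgroup.mem_bot.1 h5)
      obtain ⟨⟨S, hSN, hSp, hS⟩, hB⟩ :=
        odd_count p N hNodd fun v _ h1 hhp => M.cover_odd hpK hR v h1 hhp
      set B := A.map (MulAut.conj g).toMonoidHom with hBdef
      have hBc : Nat.card B = j + 1 := by
        rw [hBdef, Subgroup.card_map_of_injective (MulAut.conj g).injective, hjA]
      have hhB : h ∈ B := ⟨_, hgA, by simp [mul_assoc]⟩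
      have hprod := hB B ((isBlock_torus M.hyp M.torus).conj g)
        (by rw [hBc, ← hjA]; exact fun e => hpK (e.mul_left _))
        (fun e => hh1 (Subgroup.mem_bot.1 (e ▸ ⟨hhN, hhB⟩)))
      have hSle : Nat.card {v : G // v ∈ N ∧ v ^ p = 1} ≤ 2 * j + 3 := by
        refine le_trans ?_ (hsyl S hSp)
        exact Nat.card_le_card_of_injective (fun v => (⟨v.1, hS v.1 v.2.1 v.2.2⟩ : S))
          fun v w e => Subtype.ext (congrArg (fun z : S => (z : G)) e)
      have hge : j + 1 ≤ Nat.card (N ⊓ B : Subgroup G) := by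
        rw [hNc] at hprod
        refine Nat.le_of_mul_le_mul_left ?_ (show 0 < 2 * j + 3 by omega)
        calc (2 * j + 3) * (j + 1) = _ := by rw [mul_comm, ← hprod]
          _ ≤ (2 * j + 3) * Nat.card (N ⊓ B : Subgroup G) := Nat.mul_le_mul_right _ hSle
      have : N ⊓ B = B := Subgroup.eq_of_le_of_card_ge inf_le_right (by rw [hBc]; exact hge)
      exact (this ▸ inf_le_left : B ≤ N) ⟨a, ha, rfl⟩
    · exfalso
      have h4 := hR h hh1 h2 h3
      rw [← orderOf_dvd_iff_pow_eq_one, hh] at h4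
      exact hrp ((Nat.prime_dvd_prime_iff_eq hr hp').1 h4)
  -- move the element
  set y := g⁻¹ * y₀ * g with hydef
  have hyc : y = g⁻¹ * y₀ * g⁻¹⁻¹ := by rw [inv_inv]
  have hy1 : y ≠ 1 := by rw [hyc]; exact fun h => hy₀1 (conj_eq_one_iff.1 h)
  have hyK : ¬ ConjK K y := by rw [hyc, ConjK.conj_iff]; exact hy₀K
  have hy0 : F y = 0 := by rw [hyc, F_conj]; exact hy₀0
  set Q := Subgroup.centralizer ({y} : Set G) with hQ
  obtain ⟨hQc, -, -, -⟩ := hnr y hy1 hyK hy0
  rw [hq, ← hQ] at hQc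
  have hAN : A ≤ Subgroup.normalizer (Q : Set G) := by
    intro a ha
    refine Subgroup.mem_normalizer_iff.2 fun w => ?_
    have key : ∀ v, v ∈ Q ↔ g * v * g⁻¹ ∈ Subgroup.centralizer ({y₀} : Set G) := fun v => by
      have h := conj_mem_cent_iff (y := y) g v
      rw [show g * y * g⁻¹ = y₀ by rw [hydef]; group] at h
      exact h.symm
    rw [key, key]
    have h := Subgroup.mem_normalizer_iff.1 (hg a ha) (g * w * g⁻¹)
    rw [show g * a * g⁻¹ * (g * w * g⁻¹) * (g * a * g⁻¹)⁻¹ = g * (a * w * a⁻¹) * g⁻¹ by group] at h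
    exact h
  have hco : (Nat.card Q).Coprime (Nat.card A) := by
    rw [hQc, hjA, show 2 * j + 3 = 1 + 2 * (j + 1) by ring, Nat.coprime_add_mul_right_left]
    exact Nat.coprime_one_left _
  refine ⟨Q, A, ?_, fun x hx hx1 => hcent y hy1 hyK hy0 x hx hx1,
    ⟨⟨fun a b => Subtype.ext (M.torus.comm a a.2 b b.2)⟩⟩, by omega, coprime_cast hco, ?_, ?_⟩
  · rw [hG, hQc, show 2 * j + 3 - 1 = 2 * j + 2 by omega]
    ring
  · refine (Subgroup.eq_of_le_of_card_ge (sup_le Subgroup.le_normalizer hAN) ?_).symm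
    rw [hnorm y hy1 hyK hy0]
    refine Nat.le_of_dvd Nat.card_pos ?_
    rw [← hjA, ← hQc, mul_comm]
    exact hco.mul_dvd_of_dvd_of_dvd (Subgroup.card_dvd_of_le le_sup_left)
      (Subgroup.card_dvd_of_le le_sup_right)
  · intro X hX hX1
    haveI := (Subgroup.nontrivial_iff_ne_bot X).2 hX1
    obtain ⟨⟨x, hx⟩, hx1⟩ := exists_ne (1 : X)
    have hx1' : x ≠ 1 := fun e => hx1 (Subtype.ext e)
    have htA : t ∉ A := fun h => (M.torus.out t h M.hyp.t_ne).1 (M.hyp.conjK_two M.hyp.ot)
    have htinv : t⁻¹ = t := inv_self_of_two M.hyp.ot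
    have hnormY : ∀ Y : Subgroup G, Y ≤ A → X ≤ Y →
        Subgroup.normalizer (Y : Set G) = A ⊔ Subgroup.zpowers t := by
      intro Y hY hXY
      refine le_antisymm (fun v hv => ?_) (sup_le (fun a ha => ?_) ?_)
      · rcases M.torus.ti v x (hX hx) hx1'
          (hY ((Subgroup.mem_normalizer_iff.1 hv x).1 (hXY hx))) with h | h
        · exact Subgroup.mem_sup_left h
        · have := mul_mem (Subgroup.mem_sup_left (T := Subgroup.zpowers t) h)
            (Subgroup.mem_sup_right (S := A) (Subgroup.mem_zpowers t))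
          simpa [mul_assoc, M.hyp.tt] using this
      · refine Subgroup.mem_normalizer_iff.2 fun w => ⟨fun hw => ?_, fun hw => ?_⟩
        · rwa [M.torus.comm a ha w (hY hw), mul_inv_cancel_right]
        · have e : a⁻¹ * (a * w * a⁻¹) * a = a * w * a⁻¹ := by
            rw [M.torus.comm _ (inv_mem ha) _ (hY hw), inv_mul_cancel_right]
          rw [← e] at hw
          simpa [mul_assoc] using hw
      · rw [Subgroup.zpowers_le]
        refine Subgroup.mem_normalizer_iff.2 fun w => ⟨fun hw => ?_, fun hw => ?_⟩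
        · rw [M.torus.inverted w (hY hw)]; exact inv_mem hw
        · have e := M.torus.inverted _ (hY hw)
          have e2 : t * (t * w * t⁻¹) * t⁻¹ = w := by
            rw [htinv]
            calc t * (t * w * t) * t = (t * t) * w * (t * t) := by group
              _ = w := by rw [M.hyp.tt, one_mul, mul_one]
          rw [e2] at e
          rw [e]; exact inv_mem hw
    exact ⟨by rw [hnormY X hX le_rfl, hnormY A le_rfl hX], t, M.hyp.ot, htA, M.torus.inverted,
      hnormY A le_rfl hX⟩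

end Data

theorem Hyp.minus_case (D : Hyp t s K)
    (hn : (Subgroup.centralizer ({t} : Set G)).index =
      (Nat.card K - 1) * (2 * Nat.card K - 1))
    (hF : ∀ y : G, y ≠ 1 → ¬ ConjK K y → (Nat.card K - 1) ∣ F y) :
    Concl G := by
  obtain ⟨A, hA⟩ := D.exists_torus hn hF
  exact (Data.mk D hA hn).conclude

end Cfsg.Agent.Invol.BSW
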