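import Cfsg.Agent.Lib.Invol.BSW.MinusA
import Cfsg.Agent.Lib.Invol.BSW.Blocks

/-!
# The case `q = 2k - 1`: the subgroup of order `q`
-/

set_option autoImplicit false

namespace Cfsg.Agent.Invol.BSW

universe u

variable {G : Type u} [Group G] {t s : G} {K A : Subgroup G} [Finite G]

theorem isBlock_K (D : Hyp t s K) : IsBlock K := by
  refine ⟨D.comm, fun g b hg hb hb1 hgb => ?_⟩
  have hgt := D.ti g b hb hgb hb1
  by_contra hgK
  rw [D.two_of_outside hgt hgK] at hg
  exact absurd hg (by decide)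

theorem isBlock_torus (D : Hyp t s K) (T : Torus t K A) : IsBlock A := by
  refine ⟨T.comm, fun g b hg hb hb1 hgb => ?_⟩
  rcases T.ti g b hb hb1 hgb with h | h
  · exact h
  · exfalso
    have h2 : orderOf g = 2 := by
      refine orderOf_two_iff.2 ⟨?_, fun e => ?_⟩
      · have e := T.inverted _ h
        calc g * g = g * (t * t) * g * (t * t) := by rw [D.tt, mul_one, mul_one]
          _ = g * t * (t * (g * t) * t⁻¹) := by rw [inv_self_of_two D.ot]; group
          _ = 1 := by rw [e, mul_inv_cancel]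
      · rw [e, one_mul] at h
        exact (T.out t h D.t_ne).1 (D.conjK_two D.ot)
    rw [h2] at hg
    exact absurd hg (by decide)

/-- The data of the case. -/
structure Data (t s : G) (K A : Subgroup G) : Prop where
  hyp : Hyp t s K
  torus : Torus t K A
  index : (Subgroup.centralizer ({t} : Set G)).index = (Nat.card K - 1) * (2 * Nat.card K - 1)

namespace Data

variable (M : Data t s K A)
include M

theorem exists_k : ∃ j, Nat.card K = j + 2 ∧ Nat.card A = j + 1 ∧
    Nat.card G = 2 * (j + 2) * (j + 1) * (2 * j + 3) := by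
  have hk2 : 2 ≤ Nat.card K := Nat.le_of_dvd Nat.card_pos M.hyp.two_dvd_card
  obtain ⟨j, hj⟩ : ∃ j, Nat.card K = j + 2 := ⟨Nat.card K - 2, by omega⟩
  have h := M.torus.card
  refine ⟨j, hj, by omega, ?_⟩
  rw [M.hyp.card_eq, M.index, hj, show j + 2 - 1 = j + 1 by omega,
    show 2 * (j + 2) - 1 = 2 * j + 3 by omega]
  ring

theorem conj_cases {z : G} (hz1 : z ≠ 1) :
    ConjK K z ∨ (∃ g : G, g⁻¹ * z * g ∈ A) ∨ (¬ ConjK K z ∧ F z = 0) := by
  by_cases hzK : ConjK K z
  · exact Or.inl hzK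
  rcases Nat.eq_zero_or_pos (F z) with h | h
  · exact Or.inr (Or.inr ⟨hzK, h⟩)
  · exact Or.inr (Or.inl (M.torus.covers z hz1 hzK h))

theorem conjA_pos {z g : G} (hz1 : z ≠ 1) (h : g⁻¹ * z * g ∈ A) : ¬ ConjK K z ∧ 0 < F z := by
  have e : g⁻¹ * z * g = g⁻¹ * z * g⁻¹⁻¹ := by rw [inv_inv]
  have := M.torus.out _ h (by rw [e]; exact fun h => hz1 (conj_eq_one_iff.1 h))
  rwa [e, ConjK.conj_iff, F_conj] at this

/-- The centralizer of a non-real element consists of non-real elements. -/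
theorem cent_R {y w : G} (hy1 : y ≠ 1) (hyK : ¬ ConjK K y) (hy0 : F y = 0) (hw : w * y = y * w)
    (hw1 : w ≠ 1) : ¬ ConjK K w ∧ F w = 0 := by
  have hwK : ¬ ConjK K w := by
    rintro ⟨g, hg⟩
    have hne : g⁻¹ * w * g ≠ 1 := fun h => hw1 (by
      have := congrArg (fun v => g * v * g⁻¹) h; simpa [mul_assoc] using this)
    have hc : g⁻¹ * y * g * (g⁻¹ * w * g) = (g⁻¹ * w * g) * (g⁻¹ * y * g) := by
      calc g⁻¹ * y * g * (g⁻¹ * w * g) = g⁻¹ * (y * w) * g := by group
        _ = g⁻¹ * (w * y) * g := by rw [hw]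
        _ = _ := by group
    by_cases hyK' : g⁻¹ * y * g ∈ K
    · exact hyK ⟨g, hyK'⟩
    · have := M.hyp.two_of_outside (M.hyp.cent_le hg hne hc) hyK'
      rw [orderOf_conj'] at this
      exact hyK (M.hyp.conjK_two this)
  refine ⟨hwK, Nat.eq_zero_of_not_pos fun h => ?_⟩
  have := (M.hyp.cent_eq hw1 hwK h hw.symm hy1).2.1
  omega

/-- The orders of the elements of such a centralizer. -/
theorem cent_coprime {y : G} (hy1 : y ≠ 1) (hyK : ¬ ConjK K y) (hy0 : F y = 0) {p : ℕ}
    [Fact p.Prime] (hp : p ∣ Nat.card (Subgroup.centralizer ({y} : Set G))) :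
    ¬ p ∣ 2 * Nat.card K * Nat.card A := by
  obtain ⟨j, hj, hjA, hG⟩ := M.exists_k
  obtain ⟨⟨w, hwC⟩, hw⟩ := exists_prime_orderOf_dvd_card' p hp
  rw [Subgroup.orderOf_mk] at hw
  have hw1 : w ≠ 1 := fun e => by
    rw [e, orderOf_one] at hw; exact (Fact.out : p.Prime).one_lt.ne hw
  obtain ⟨hwK, hw0⟩ := M.cent_R hy1 hyK hy0 (mem_cent.1 hwC) hw1
  have hodd : p ≠ 2 := fun e => by
    have h := M.hyp.odd_cent hy1 hyK
    rw [← Nat.not_even_iff_odd, even_iff_two_dvd] at h
    exact h (e ▸ hp)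
  have hp' : p.Prime := Fact.out
  intro hd
  rcases hp'.dvd_mul.1 hd with hd | hd
  rotate_left
  · -- a divisor of `|A|`
    have hidx : ¬ p ∣ A.index := fun h => by
      have hi : A.index = 2 * (j + 2) * (2 * j + 3) := by
        have h2 := A.card_mul_index
        rw [hjA, hG] at h2
        refine Nat.eq_of_mul_eq_mul_left (show 0 < j + 1 by omega) (h2.trans ?_)
        ring
      rw [hi] at h
      rw [hjA] at hd
      rcases hp'.dvd_mul.1 h with h | h
      · rcases hp'.dvd_mul.1 h with h | h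
        · exact hodd ((Nat.prime_dvd_prime_iff_eq hp' Nat.prime_two).1 h)
        · have := (Nat.dvd_add_right hd).1 (show p ∣ (j + 1) + 1 from h)
          exact hp'.not_dvd_one this
      · have h2 : p ∣ 2 * (j + 1) := hd.mul_left 2
        have := (Nat.dvd_add_right h2).1 (show p ∣ 2 * (j + 1) + 1 from h)
        exact hp'.not_dvd_one this
    obtain ⟨g, hg⟩ := exists_conj_mem A hidx (isPGroup_zpowers hw)
    have := (M.conjA_pos hw1 hg).2
    omega
  · rcases hp'.dvd_mul.1 hd with hd | hd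
    · exact hodd ((Nat.prime_dvd_prime_iff_eq hp' Nat.prime_two).1 hd)
    have hidx : ¬ p ∣ K.index := fun h => by
      have hi : K.index = 2 * (j + 1) * (2 * j + 3) := by
        have h2 := K.card_mul_index
        rw [hj, hG] at h2
        refine Nat.eq_of_mul_eq_mul_left (show 0 < j + 2 by omega) (h2.trans ?_)
        ring
      rw [hi] at h
      rw [hj] at hd
      rcases hp'.dvd_mul.1 h with h | h
      · rcases hp'.dvd_mul.1 h with h | h
        · exact hodd ((Nat.prime_dvd_prime_iff_eq hp' Nat.prime_two).1 h)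
        · have := (Nat.dvd_add_right h).1 (show p ∣ (j + 1) + 1 from hd)
          exact hp'.not_dvd_one this
      · have h2 : p ∣ (2 * j + 3) + 1 := by
          have : p ∣ 2 * (j + 2) := hd.mul_left 2
          rwa [show 2 * (j + 2) = 2 * j + 3 + 1 by ring] at this
        exact hp'.not_dvd_one ((Nat.dvd_add_right h).1 h2)
    exact hwK (exists_conj_mem K hidx (isPGroup_zpowers hw))

/-- The structure of the non-real elements. -/
theorem nonreal : ∃ p : ℕ, p.Prime ∧ ¬ p ∣ 2 * Nat.card K * Nat.card A ∧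
    ∀ y : G, y ≠ 1 → ¬ ConjK K y → F y = 0 →
      Nat.card (Subgroup.centralizer ({y} : Set G)) = 2 * Nat.card K - 1 ∧ y ^ p = 1 ∧
      IsPGroup p (Subgroup.centralizer ({y} : Set G)) ∧
      ∀ z : G, z ≠ 1 → ¬ ConjK K z → F z = 0 → IsConj y z ∨ IsConj y⁻¹ z := by
  classical
  haveI := Fintype.ofFinite G
  obtain ⟨j, hj, hjA, hG⟩ := M.exists_k
  have hcnt := M.torus.count
  rw [hj, show j + 2 - 1 = j + 1 by omega, Nat.card_eq_fintype_card, Fintype.card_subtype] at hcnt
  set R := Finset.univ.filter (fun z : G => z ≠ 1 ∧ ¬ ConjK K z ∧ F z = 0) with hR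
  -- classes and centralizers
  have hcls : ∀ y : G, y ≠ 1 → ¬ ConjK K y → F y = 0 →
      Nat.card (Subgroup.centralizer ({y} : Set G)) = 2 * j + 3 ∧
      ∀ z : G, z ≠ 1 → ¬ ConjK K z → F z = 0 → IsConj y z ∨ IsConj y⁻¹ z := by
    intro y hy1 hyK hy0
    set C := Subgroup.centralizer ({y} : Set G) with hC
    have hCodd := M.hyp.odd_cent hy1 hyK
    have hdvd : Nat.card C ∣ 2 * j + 3 := by
      have h : Nat.card C ∣ 2 * (j + 2) * (j + 1) * (2 * j + 3) :=
        hG ▸ Subgroup.card_subgroup_dvd_card C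
      refine Nat.Coprime.dvd_of_dvd_mul_left (Nat.coprime_of_dvd fun r hr hrC hr2 => ?_) h
      haveI := Fact.mk hr
      exact M.cent_coprime hy1 hyK hy0 hrC (by rw [hj, hjA]; exact hr2)
    have hsub : ∀ w : G, IsConj y w ∨ IsConj y⁻¹ w → w ∈ R := by
      intro w hw
      have hy1' : y⁻¹ ≠ 1 := fun e => hy1 (inv_eq_one.1 e)
      obtain ⟨hK', h0'⟩ := M.cent_R hy1 hyK hy0
        (show y⁻¹ * y = y * y⁻¹ by group) hy1'
      rw [hR, Finset.mem_filter]
      rcases hw with hw | hw <;> obtain ⟨g, rfl⟩ := isConj_iff.1 hw <;>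
        refine ⟨Finset.mem_univ _, ?_, ?_, ?_⟩
      · exact fun e => hy1 (conj_eq_one_iff.1 e)
      · rw [ConjK.conj_iff]; exact hyK
      · rw [F_conj]; exact hy0
      · exact fun e => hy1' (conj_eq_one_iff.1 e)
      · rw [ConjK.conj_iff]; exact hK'
      · rw [F_conj]; exact h0'
    have hclass : ∀ w : G, (Finset.univ.filter (fun z => IsConj w z)).card *
        Nat.card (Subgroup.centralizer ({w} : Set G)) = Nat.card G := by
      intro w
      have h1 := MulAction.index_stabilizer (ConjAct G) w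
      rw [ConjAct.stabilizer_eq_centralizer] at h1
      have h2 : MulAction.orbit (ConjAct G) w = {z | IsConj w z} := by
        ext z
        exact ⟨fun h => (ConjAct.mem_orbit_conjAct.mp h).symm,
          fun h => ConjAct.mem_orbit_conjAct.mpr h.symm⟩
      rw [h2, Set.ncard_eq_toFinset_card', Set.toFinset_setOf] at h1
      rw [← h1]
      exact Subgroup.index_mul_card _
    have hCinv : Subgroup.centralizer ({y⁻¹} : Set G) = C := Subgroup.ext fun w => by
      simp only [hC, mem_cent]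
      exact ⟨fun h => by simpa using (Commute.inv_right (show Commute w y⁻¹ from h)).eq,
        fun h => (Commute.inv_right (show Commute w y from h)).eq⟩
    have h1 := hclass y
    have h2 := hclass y⁻¹
    rw [hCinv, hG] at h2
    rw [← hC, hG] at h1
    have hd : Disjoint (Finset.univ.filter (fun z => IsConj y z))
        (Finset.univ.filter (fun z => IsConj y⁻¹ z)) := by
      rw [Finset.disjoint_left]
      intro z hz hz'
      have := M.hyp.F_pos_of_conj_inv hy1 hyK
        ((Finset.mem_filter.1 hz).2.trans (Finset.mem_filter.1 hz').2.symm)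
      omega
    have hu : Finset.univ.filter (fun z => IsConj y z) ∪
        Finset.univ.filter (fun z => IsConj y⁻¹ z) ⊆ R := fun z hz => by
      rcases Finset.mem_union.1 hz with hz | hz
      · exact hsub z (Or.inl (Finset.mem_filter.1 hz).2)
      · exact hsub z (Or.inr (Finset.mem_filter.1 hz).2)
    have hle := Finset.card_le_card hu
    rw [Finset.card_union_of_disjoint hd, hcnt] at hle
    have hCle := Nat.le_of_dvd (by omega) hdvd
    have hCpos := Nat.card_pos (α := C)
    have hCeq : Nat.card C = 2 * j + 3 := by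
      by_contra hne
      have hlt : Nat.card C < 2 * j + 3 := by omega
      have key : 2 * (2 * (j + 2) * (j + 1) * (2 * j + 3)) ≤ 4 * (j + 2) * (j + 1) * Nat.card C := by
        nlinarith [Nat.mul_le_mul_right (Nat.card C) hle]
      nlinarith [Nat.mul_lt_mul_of_pos_left hlt (show 0 < 4 * (j + 2) * (j + 1) by positivity)]
    refine ⟨hCeq, fun z hz1 hzK hz0 => ?_⟩
    have heq := Finset.eq_of_subset_of_card_le hu (by
      rw [hCeq] at h1 h2
      rw [Finset.card_union_of_disjoint hd, hcnt]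
      have e1 := Nat.eq_of_mul_eq_mul_right (show 0 < 2 * j + 3 by omega) h1
      have e2 := Nat.eq_of_mul_eq_mul_right (show 0 < 2 * j + 3 by omega) h2
      rw [e1, e2]
      linarith)
    have hz : z ∈ R := Finset.mem_filter.2 ⟨Finset.mem_univ _, hz1, hzK, hz0⟩
    rw [← heq, Finset.mem_union] at hz
    exact hz.imp (fun h => (Finset.mem_filter.1 h).2) (fun h => (Finset.mem_filter.1 h).2)
  obtain ⟨y₀, hy₀⟩ : R.Nonempty := Finset.card_pos.1 (by rw [hcnt]; positivity)
  obtain ⟨hy₀1, hy₀K, hy₀0⟩ := (Finset.mem_filter.1 hy₀).2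
  obtain ⟨hc₀, hall₀⟩ := hcls y₀ hy₀1 hy₀K hy₀0
  obtain ⟨p, hp, hpC⟩ := Nat.exists_prime_and_dvd
    (n := Nat.card (Subgroup.centralizer ({y₀} : Set G))) (by omega)
  haveI := Fact.mk hp
  obtain ⟨⟨w, hwC⟩, hw⟩ := exists_prime_orderOf_dvd_card' p hpC
  rw [Subgroup.orderOf_mk] at hw
  have hw1 : w ≠ 1 := fun e => by rw [e, orderOf_one] at hw; exact hp.one_lt.ne hw
  obtain ⟨hwK, hw0⟩ := M.cent_R hy₀1 hy₀K hy₀0 (mem_cent.1 hwC) hw1
  have hpow : ∀ z : G, z ≠ 1 → ¬ ConjK K z → F z = 0 → z ^ p = 1 := by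
    intro z hz1 hzK hz0
    rcases (hcls w hw1 hwK hw0).2 z hz1 hzK hz0 with h | h <;>
      obtain ⟨g, rfl⟩ := isConj_iff.1 h <;> rw [← orderOf_dvd_iff_pow_eq_one, orderOf_conj]
    · rw [hw]
    · rw [orderOf_inv, hw]
  refine ⟨p, hp, M.cent_coprime hy₀1 hy₀K hy₀0 hpC, fun y hy1 hyK hy0 =>
    ⟨by rw [(hcls y hy1 hyK hy0).1, hj]; omega, hpow y hy1 hyK hy0, fun ⟨x, hx⟩ => ⟨1, ?_⟩,
      (hcls y hy1 hyK hy0).2⟩⟩
  rw [pow_one]
  refine Subtype.ext ?_
  show x ^ p = 1
  by_cases hx1 : x = 1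
  · rw [hx1, one_pow]
  · obtain ⟨h1, h2⟩ := M.cent_R hy1 hyK hy0 (mem_cent.1 hx) hx1
    exact hpow x hx1 h1 h2

end Data

end Cfsg.Agent.Invol.BSW
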