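import Cfsg.Agent.Lib.Invol.BSW.Count

/-!
# Normalizers of the centralizers of inverted elements
-/

set_option autoImplicit false

namespace Cfsg.Agent.Invol.BSW

universe u

variable {G : Type u} [Group G]

/-- The conclusion of the theorem. -/
def Concl (G : Type u) [Group G] : Prop :=
  ∃ Q D : Subgroup G, 2 * Nat.card G = Nat.card ↥Q * (Nat.card ↥Q + 1) * (Nat.card ↥Q - 1) ∧
    (∀ x ∈ Q, x ≠ 1 → Subgroup.centralizer ({x} : Set G) = Q) ∧
    IsMulCommutative ↥D ∧ 2 * Nat.card ↥D + 1 = Nat.card ↥Q ∧ Q ⊓ D = ⊥ ∧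
    Subgroup.normalizer (Q : Set G) = Q ⊔ D ∧
    ∀ X : Subgroup G, X ≤ D → X ≠ ⊥ →
      Subgroup.normalizer (X : Set G) = Subgroup.normalizer (D : Set G) ∧
      ∃ u : G, orderOf u = 2 ∧ u ∉ D ∧ (∀ d ∈ D, u * d * u⁻¹ = d⁻¹) ∧
        Subgroup.normalizer (D : Set G) = D ⊔ Subgroup.zpowers u

theorem mem_cent {y z : G} : z ∈ Subgroup.centralizer ({y} : Set G) ↔ z * y = y * z :=
  Subgroup.mem_centralizer_singleton_iff

theorem conj_mem_cent_iff {y : G} (g w : G) :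
    g * w * g⁻¹ ∈ Subgroup.centralizer ({g * y * g⁻¹} : Set G) ↔
      w ∈ Subgroup.centralizer ({y} : Set G) := by
  simp only [mem_cent]
  rw [show g * w * g⁻¹ * (g * y * g⁻¹) = g * (w * y) * g⁻¹ by group,
    show g * y * g⁻¹ * (g * w * g⁻¹) = g * (y * w) * g⁻¹ by group]
  simp only [mul_left_inj, mul_right_inj]

theorem coprime_cast {B C : Subgroup G} [Finite G] (h : (Nat.card B).Coprime (Nat.card C)) :
    B ⊓ C = ⊥ :=
  (Subgroup.eq_bot_iff_forall _).2 fun x hx => by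
    have h1 : orderOf x ∣ Nat.card B := by
      rw [← Subgroup.orderOf_mk x hx.1]; exact orderOf_dvd_natCard _
    have h2 : orderOf x ∣ Nat.card C := by
      rw [← Subgroup.orderOf_mk x hx.2]; exact orderOf_dvd_natCard _
    exact orderOf_eq_one_iff.1 (Nat.eq_one_of_dvd_coprimes h h1 h2)

namespace Hyp

variable {t s : G} {K : Subgroup G} (D : Hyp t s K) [Finite G]
include D

/-- Some conjugate of `y` is inverted by `t`. -/
theorem exists_inverted_by_t {y : G} (hy : ¬ ConjK K y) (hF : 0 < F y) :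
    ∃ g : G, t * (g⁻¹ * y * g) * t⁻¹ = (g⁻¹ * y * g)⁻¹ := by
  obtain ⟨u, hu, hinv⟩ := (D.F_pos_iff_inverted hy).1 hF
  obtain ⟨g, rfl⟩ := isConj_iff.1 (D.conj t u D.ot hu)
  refine ⟨g, ?_⟩
  calc t * (g⁻¹ * y * g) * t⁻¹ = g⁻¹ * ((g * t * g⁻¹) * y * (g * t * g⁻¹)⁻¹) * g := by group
    _ = _ := by rw [hinv]; group

theorem ti_normalizer {y : G} (hy1 : y ≠ 1) (hy : ¬ ConjK K y) (hF : 0 < F y) {g z : G}
    (hz : z ∈ Subgroup.centralizer ({y} : Set G)) (hz1 : z ≠ 1)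
    (hgz : g * z * g⁻¹ ∈ Subgroup.centralizer ({y} : Set G)) :
    g ∈ Subgroup.normalizer (Subgroup.centralizer ({y} : Set G) : Set G) := by
  obtain ⟨-, -, h1⟩ := D.cent_eq hy1 hy hF (mem_cent.1 hz) hz1
  obtain ⟨-, -, h2⟩ := D.cent_eq hy1 hy hF (mem_cent.1 hgz)
    (fun h => hz1 (conj_eq_one_iff.1 h))
  refine Subgroup.mem_normalizer_iff.2 fun w => ?_
  constructor
  · intro hw
    rw [← h2]; rw [← h1] at hw
    exact (conj_mem_cent_iff g w).2 hw
  · intro hw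
    rw [← h2] at hw; rw [← h1]
    exact (conj_mem_cent_iff g w).1 hw

theorem normalizer_inter {y : G} (hy1 : y ≠ 1) (hy : ¬ ConjK K y)
    (hinv : t * y * t⁻¹ = y⁻¹) {d : G}
    (hd : d ∈ Subgroup.normalizer (Subgroup.centralizer ({y} : Set G) : Set G))
    (hdt : d * t = t * d) : d ∈ K := by
  by_contra hdK
  have hd2 := D.two_of_outside hdt hdK
  have hdd := (orderOf_two_iff.1 hd2).1
  have hyF : 0 < F y := (D.F_pos_iff_inverted hy).2 ⟨t, D.ot, hinv⟩
  have hb : d * y * d⁻¹ ∈ Subgroup.centralizer ({y} : Set G) :=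
    (Subgroup.mem_normalizer_iff.1 hd y).1 (mem_cent.2 rfl)
  have hyy : y * (d * y * d⁻¹) ∈ Subgroup.centralizer ({y} : Set G) :=
    mul_mem (mem_cent.2 rfl) hb
  have hfix : d * (y * (d * y * d⁻¹)) = y * (d * y * d⁻¹) * d := by
    rw [inv_self_of_two hd2] at hb ⊢
    calc d * (y * (d * y * d)) = (d * y * d) * y * d := by group
      _ = y * (d * y * d) * d := by rw [mem_cent.1 hb]
  have hd1 : y * (d * y * d⁻¹) = 1 := by
    by_contra hne
    obtain ⟨hK', -, -⟩ := D.cent_eq hy1 hy hyF (mem_cent.1 hyy) hne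
    exact D.no_two_cent hne hK' hd2 hfix
  have hdy : d * y * d⁻¹ = y⁻¹ := eq_inv_of_mul_eq_one_right hd1
  have hne : d * t ≠ 1 := fun h => hdK (by
    rw [eq_inv_of_mul_eq_one_left h]; exact inv_mem D.tK)
  refine D.no_two_cent hy1 hy (orderOf_two_iff.2 ⟨?_, hne⟩) ?_
  · calc d * t * (d * t) = d * (t * d) * t := by group
      _ = (d * d) * (t * t) := by rw [← hdt]; group
      _ = 1 := by rw [hdd, D.tt, mul_one]
  · have e : d * t * y * (d * t)⁻¹ = y := by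
      calc d * t * y * (d * t)⁻¹ = d * (t * y * t⁻¹) * d⁻¹ := by group
        _ = (d * y * d⁻¹)⁻¹ := by rw [hinv]; group
        _ = y := by rw [hdy, inv_inv]
    exact mul_inv_eq_iff_eq_mul.1 e

theorem normalizer_decomp {y : G} (hy1 : y ≠ 1) (hy : ¬ ConjK K y)
    (hinv : t * y * t⁻¹ = y⁻¹) {g : G}
    (hg : g ∈ Subgroup.normalizer (Subgroup.centralizer ({y} : Set G) : Set G)) :
    ∃ a ∈ Subgroup.centralizer ({y} : Set G), a * g * t = t * (a * g) := by
  set A := Subgroup.centralizer ({y} : Set G) with hA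
  have hyA : y ∈ A := mem_cent.2 rfl
  -- `t' = g t g⁻¹` inverts `y`
  have hinvA : ∀ a ∈ A, t * a * t⁻¹ = a⁻¹ := fun a ha =>
    D.inverts_cent hy1 hy D.ot hinv (mem_cent.1 ha)
  have hy' : g⁻¹ * y * g ∈ A := by
    refine (Subgroup.mem_normalizer_iff.1 hg _).2 ?_
    simpa [mul_assoc] using hyA
  have h' : g * t * g⁻¹ * y * (g * t * g⁻¹)⁻¹ = y⁻¹ := by
    calc g * t * g⁻¹ * y * (g * t * g⁻¹)⁻¹ = g * (t * (g⁻¹ * y * g) * t⁻¹) * g⁻¹ := by group
      _ = y⁻¹ := by rw [hinvA _ hy']; group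
  -- the product of the two inverting involutions centralizes `y`
  have hc : t * (g * t * g⁻¹) ∈ A := by
    rw [hA, mem_cent]
    have e : t * (g * t * g⁻¹) * y * (t * (g * t * g⁻¹))⁻¹ = y := by
      calc t * (g * t * g⁻¹) * y * (t * (g * t * g⁻¹))⁻¹
          = t * (g * t * g⁻¹ * y * (g * t * g⁻¹)⁻¹) * t⁻¹ := by group
        _ = y := by rw [h', hinvA _ (inv_mem hyA), inv_inv]
    exact mul_inv_eq_iff_eq_mul.1 e
  -- take a square root
  obtain ⟨j, hj⟩ := D.odd_cent hy1 hy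
  set c := t * (g * t * g⁻¹) with hcdef
  refine ⟨c ^ (j + 1), pow_mem hc _, ?_⟩
  have hb2 : c ^ (j + 1) * c ^ (j + 1) = c := by
    rw [← pow_add, show j + 1 + (j + 1) = (2 * j + 1) + 1 by ring, pow_succ, ← hj]
    rw [show c ^ Nat.card A = 1 from congrArg Subtype.val (pow_card_eq_one' (x := (⟨c, hc⟩ : A))),
      one_mul]
  set b := c ^ (j + 1)
  have hbA : b ∈ A := pow_mem hc _
  have ht' : t⁻¹ = t := inv_self_of_two D.ot
  have hbt : b * t = t * b⁻¹ := by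
    rw [← hinvA b hbA, ht', ← mul_assoc, ← mul_assoc, D.tt, one_mul]
  calc b * g * t = b * (t * c) * g := by
        rw [hcdef, ← mul_assoc t, D.tt, one_mul]; group
    _ = t * b⁻¹ * (b * b) * g := by rw [← mul_assoc b, hbt, hb2]
    _ = t * (b * g) := by group

end Hyp

end Cfsg.Agent.Invol.BSW
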