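import Cfsg.Agent.Lib.Invol.BSW.Normal

/-!
# The case `q = 2k + 1`
-/

set_option autoImplicit false

namespace Cfsg.Agent.Invol.BSW

universe u

variable {G : Type u} [Group G] {t s : G} {K : Subgroup G}

theorem divisor_cases {k a c b : ℕ} (hk : 2 ≤ k) (ha : a = 1 + k * c) (hc : c ≠ 0)
    (hab : a * b = (k + 1) * (2 * k + 1)) :
    a = k + 1 ∨ a = 2 * k + 1 ∨ a = (k + 1) * (2 * k + 1) := by
  have hb : b % k = 1 := by
    have h : b + k * (c * b) = 1 + k * (2 * k + 3) := by rw [ha] at hab; linarith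
    have h2 := congrArg (· % k) h
    simp only [Nat.add_mul_mod_self_left] at h2
    rwa [Nat.mod_eq_of_lt (show 1 < k by omega)] at h2
  obtain ⟨e, rfl⟩ : ∃ e, b = 1 + k * e := ⟨b / k, by have := Nat.mod_add_div b k; omega⟩
  subst ha
  have h2 : c + e + k * (c * e) = 3 + 2 * k :=
    Nat.eq_of_mul_eq_mul_left (show 0 < k by omega) (by linarith)
  rcases Nat.eq_zero_or_pos e with rfl | he
  · right; right; linarith
  have hce : c * e ≤ 2 := by
    by_contra h
    have := Nat.mul_le_mul_left k (show 3 ≤ c * e by omega)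
    have := Nat.one_le_iff_ne_zero.2 hc
    nlinarith
  have hc2 : c ≤ 2 := le_trans (Nat.le_mul_of_pos_right c he) hce
  have he2 : e ≤ 2 := le_trans (Nat.le_mul_of_pos_left e (by omega)) hce
  interval_cases c <;> interval_cases e <;> omega

theorem Hyp.plus_case [Finite G] (D : Hyp t s K)
    (hn : (Subgroup.centralizer ({t} : Set G)).index =
      (Nat.card K + 1) * (2 * Nat.card K + 1))
    (hF : ∀ y : G, y ≠ 1 → ¬ ConjK K y → 0 < F y ∧ ∃ c, F y = 1 + Nat.card K * c) :
    Concl G := by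
  classical
  haveI := Fintype.ofFinite G
  set k := Nat.card K with hk
  set n := (Subgroup.centralizer ({t} : Set G)).index with hndef
  have hk2 : 2 ≤ k := Nat.le_of_dvd Nat.card_pos D.two_dvd_card
  have hg : Nat.card G = 2 * k * n := D.card_eq
  have hcases : ∀ y, y ≠ 1 → ¬ ConjK K y → F y = k + 1 ∨ F y = 2 * k + 1 ∨ F y = n := by
    intro y hy1 hy
    obtain ⟨hpos, c, hc⟩ := hF y hy1 hy
    have ha := D.F_eq_cent hy1 hy hpos
    have hc0 : c ≠ 0 := by
      rintro rfl
      rw [mul_zero, add_zero, ha, Subgroup.card_eq_one] at hc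
      exact hy1 (Subgroup.mem_bot.1 (hc ▸ mem_cent.2 rfl))
    have hodd : Odd (F y) := ha ▸ D.odd_cent hy1 hy
    have hdvd : F y ∣ 2 * k * n := hg ▸ ha ▸ Subgroup.card_subgroup_dvd_card _
    have hco : (F y).Coprime (2 * k) := by
      refine Nat.Coprime.mul_right (Nat.coprime_two_right.2 hodd) ?_
      rw [hc, Nat.coprime_add_mul_left_left]
      exact Nat.coprime_one_left _
    obtain ⟨b, hb⟩ := hco.dvd_of_dvd_mul_left hdvd
    rw [hn]
    exact divisor_cases hk2 hc hc0 (by rw [← hn, ← hb])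
  obtain ⟨e1, e2⟩ := D.others_eqs
  rw [← hndef, ← hk] at e1 e2
  set m := (others K).card with hm
  have e1' : 1 + m = n * (k + 1) := by
    rw [hg] at e1
    have : n * (k - 1) + n * (k + 1) = 2 * k * n := by
      rw [← mul_add, show k - 1 + (k + 1) = 2 * k by omega]; ring
    omega
  -- not all of them are everything
  have hnotn : ∀ y, y ≠ 1 → ¬ ConjK K y → F y ≠ n := by
    intro y hy1 hy hyn
    have hall : ∀ z ∈ others K, F z = n := by
      intro z hz
      obtain ⟨hz1, hzK⟩ := mem_others.1 hz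
      have hFz := (hF z hz1 hzK).1
      have hcz := D.F_eq_cent hz1 hzK hFz
      obtain ⟨p, hp, hpz⟩ := Nat.exists_prime_and_dvd (n := F z) (by
        rcases hcases z hz1 hzK with h | h | h <;> rw [h] <;> first | omega | (rw [hn]; nlinarith))
      haveI := Fact.mk hp
      have hpn : p ∣ n := by
        rcases hcases z hz1 hzK with h | h | h <;> rw [h] at hpz
        · exact hn ▸ hpz.mul_right _
        · exact hn ▸ hpz.mul_left _
        · exact hpz
      have hFy := (hF y hy1 hy).1
      obtain ⟨g, hg'⟩ := D.cent_conj hy1 hy hFy hz1 hzK hFz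
        (p := p) (by rw [← D.F_eq_cent hy1 hy hFy, hyn]; exact hpn) (hcz ▸ hpz)
      have hne : g⁻¹ * z * g ≠ 1 := fun h => hz1 (by
        have := congrArg (fun v => g * v * g⁻¹) h; simpa [mul_assoc] using this)
      obtain ⟨hK', hF', hC⟩ := D.cent_eq hy1 hy hFy (mem_cent.1 hg') hne
      have := D.F_eq_cent hne hK' hF'
      rw [hC, ← D.F_eq_cent hy1 hy hFy, hyn] at this
      rw [← this, show g⁻¹ * z * g = g⁻¹ * z * g⁻¹⁻¹ by group, F_conj]
    rw [Finset.sum_const_nat hall, ← hm] at e2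
    have hn0 : 0 < n := by rw [hn]; positivity
    have : 1 + (k - 1) * k + m = n := Nat.eq_of_mul_eq_mul_left hn0 (by linarith)
    nlinarith
  have hcases' : ∀ y ∈ others K, F y = if F y = 2 * k + 1 then 2 * k + 1 else k + 1 := by
    intro y hy
    obtain ⟨hy1, hyK⟩ := mem_others.1 hy
    rcases hcases y hy1 hyK with h | h | h
    · rw [if_neg (by omega), h]
    · rw [if_pos h, h]
    · exact absurd h (hnotn y hy1 hyK)
  set E := (others K).filter (fun y => F y = 2 * k + 1) with hE
  have hEc : E.card = 4 * k * (k + 1) := by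
    rw [Finset.sum_congr rfl hcases', Finset.sum_ite, Finset.sum_const, Finset.sum_const,
      smul_eq_mul, smul_eq_mul, ← hE] at e2
    have h := Finset.card_filter_add_card_filter_not (s := others K) (fun y => F y = 2 * k + 1)
    rw [← hE, ← hm] at h
    obtain ⟨j, hj⟩ : ∃ j, k = j + 1 := ⟨k - 1, by omega⟩
    rw [hn] at e1' e2
    rw [hj] at e1' e2 h ⊢
    rw [Nat.add_sub_cancel] at e2
    nlinarith
  -- a distinguished element
  obtain ⟨y₀, hy₀⟩ : E.Nonempty := Finset.card_pos.1 (by rw [hEc]; positivity)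
  obtain ⟨hy₀o, hy₀F⟩ := Finset.mem_filter.1 hy₀
  obtain ⟨hy₀1, hy₀K⟩ := mem_others.1 hy₀o
  obtain ⟨g₀, hinv⟩ := D.exists_inverted_by_t hy₀K (hF y₀ hy₀1 hy₀K).1
  set y := g₀⁻¹ * y₀ * g₀ with hydef
  have hyc : y = g₀⁻¹ * y₀ * g₀⁻¹⁻¹ := by rw [inv_inv]
  have hy1 : y ≠ 1 := by rw [hyc]; exact fun h => hy₀1 (conj_eq_one_iff.1 h)
  have hyK : ¬ ConjK K y := by rw [hyc, ConjK.conj_iff]; exact hy₀K
  have hyF : F y = 2 * k + 1 := by rw [hyc, F_conj, hy₀F]
  have hypos : 0 < F y := by omega
  set A := Subgroup.centralizer ({y} : Set G) with hA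
  have hAc : Nat.card A = 2 * k + 1 := by rw [hA, ← D.F_eq_cent hy1 hyK hypos, hyF]
  have hEset : ∀ z, z ∈ E ↔ z ≠ 1 ∧ ∃ g : G, g⁻¹ * z * g ∈ A := by
    intro z
    simp only [hE, Finset.mem_filter, mem_others]
    constructor
    · rintro ⟨⟨hz1, hzK⟩, hzF⟩
      obtain ⟨p, hp, hpz⟩ := Nat.exists_prime_and_dvd (n := F z) (by omega)
      haveI := Fact.mk hp
      exact ⟨hz1, D.cent_conj hy1 hyK hypos hz1 hzK (by omega) (p := p)
        (by rw [← hA, hAc, ← hzF]; exact hpz) (by rw [← D.F_eq_cent hz1 hzK (by omega)]; exact hpz)⟩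
    · rintro ⟨hz1, g, hg'⟩
      have hne : g⁻¹ * z * g⁻¹⁻¹ ≠ 1 := fun h => hz1 (conj_eq_one_iff.1 h)
      rw [inv_inv] at hne
      obtain ⟨hK', hF', hC⟩ := D.cent_eq hy1 hyK hypos (mem_cent.1 hg') hne
      have h5 := D.F_eq_cent hne hK' hF'
      rw [hC, ← hA, hAc] at h5
      rw [show g⁻¹ * z * g = g⁻¹ * z * g⁻¹⁻¹ by group] at hK' h5
      rw [ConjK.conj_iff] at hK'
      rw [F_conj] at h5
      exact ⟨⟨hz1, hK'⟩, h5⟩
  set N := Subgroup.normalizer (A : Set G) with hN
  have hNc : Nat.card N = k * (2 * k + 1) := by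
    have h := card_conj_union A N
      (fun g hg' b hb => (Subgroup.mem_normalizer_iff.1 hg' _).2 (by simpa [mul_assoc] using hb))
      (fun g b hb hb1 hgb => D.ti_normalizer hy1 hyK hypos hb hb1 hgb)
    have hu : Nat.card {z : G // z ≠ 1 ∧ ∃ g : G, g⁻¹ * z * g ∈ A} = E.card := by
      rw [Nat.card_eq_fintype_card, Fintype.card_subtype]
      congr 1
      ext z
      simp [hEset]
    rw [hu, hEc, hAc, hg, hn, Nat.add_sub_cancel] at h
    refine Nat.eq_of_mul_eq_mul_left (show 0 < 4 * k * (k + 1) by positivity) (h.trans ?_)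
    ring
  have hinter : ∀ d ∈ N, d * t = t * d → d ∈ K := fun d hd hdt =>
    D.normalizer_inter hy1 hyK hinv hd hdt
  have hle : N ≤ A ⊔ (N ⊓ K) := by
    intro g hg'
    obtain ⟨a, ha, hat⟩ := D.normalizer_decomp hy1 hyK hinv hg'
    have hagN : a * g ∈ N := mul_mem (Subgroup.le_normalizer ha) hg'
    have := mul_mem (Subgroup.mem_sup_left (T := N ⊓ K) (inv_mem ha))
      (Subgroup.mem_sup_right (S := A) (show a * g ∈ N ⊓ K from ⟨hagN, hinter _ hagN hat⟩))
    simpa using this
  have hKN : K ≤ N := by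
    -- count the products
    let f : A × (N ⊓ K : Subgroup G) → G := fun p => p.1 * p.2
    have hsurj : ∀ g : N, ∃ p, f p = g := by
      rintro ⟨g, hg'⟩
      obtain ⟨a, ha, hat⟩ := D.normalizer_decomp hy1 hyK hinv hg'
      have hagN : a * g ∈ N := mul_mem (Subgroup.le_normalizer ha) hg'
      exact ⟨(⟨a⁻¹, inv_mem ha⟩, ⟨a * g, hagN, hinter _ hagN hat⟩), by simp [f]⟩
    choose p hp using hsurj
    have hcard := Nat.card_le_card_of_injective p (fun g g' e => Subtype.ext (by
      rw [← hp g, ← hp g', e]))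
    rw [Nat.card_prod, hAc, hNc, mul_comm k] at hcard
    have hkl : k ≤ Nat.card (N ⊓ K : Subgroup G) := Nat.le_of_mul_le_mul_left hcard (by omega)
    have := Subgroup.eq_of_le_of_card_ge (inf_le_right : N ⊓ K ≤ K) hkl
    exact this ▸ inf_le_left
  refine ⟨A, K, ?_, fun x hx hx1 => (D.cent_eq hy1 hyK hypos (mem_cent.1 hx) hx1).2.2,
    ⟨⟨fun a b => Subtype.ext (D.comm a a.2 b b.2)⟩⟩, hAc.symm, ?_, ?_, ?_⟩
  · rw [hg, hn, hAc, Nat.add_sub_cancel]
    ring
  · refine coprime_cast ?_
    rw [hAc, ← hk, add_comm, Nat.coprime_add_mul_right_left]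
    exact Nat.coprime_one_left _
  · refine le_antisymm (hle.trans (sup_le_sup_left inf_le_right _)) (sup_le Subgroup.le_normalizer hKN)
  · intro X hX hX1
    haveI := (Subgroup.nontrivial_iff_ne_bot X).2 hX1
    obtain ⟨⟨x, hx⟩, hx1⟩ := exists_ne (1 : X)
    have hnorm : ∀ Y : Subgroup G, Y ≤ K → X ≤ Y →
        Subgroup.normalizer (Y : Set G) = Subgroup.centralizer ({t} : Set G) := by
      intro Y hY hXY
      refine le_antisymm (fun g hg' => mem_cent.2 ?_) (fun g hg' => ?_)
      · exact D.ti g x (hX hx) (hY ((Subgroup.mem_normalizer_iff.1 hg' x).1 (hXY hx)))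
          (fun e => hx1 (Subtype.ext e))
      · have hgt := mem_cent.1 hg'
        refine Subgroup.mem_normalizer_iff.2 fun w => ?_
        by_cases hgK : g ∈ K
        · constructor <;> intro hw
          · rwa [D.comm g hgK w (hY hw), mul_inv_cancel_right]
          · have e : g⁻¹ * (g * w * g⁻¹) * g = g * w * g⁻¹ := by
              rw [D.comm _ (inv_mem hgK) _ (hY hw), inv_mul_cancel_right]
            rw [← e] at hw
            simpa [mul_assoc] using hw
        · constructor <;> intro hw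
          · rw [D.comm_outside hgt hgK (hY hw)]; exact inv_mem hw
          · have e := D.comm_outside hgt hgK (hY hw)
            have h2 : g⁻¹ = g := inv_self_of_two (D.two_of_outside hgt hgK)
            have e2 : g * (g * w * g⁻¹) * g⁻¹ = w := by
              have hgg := (orderOf_two_iff.1 (D.two_of_outside hgt hgK)).1
              rw [h2]
              calc g * (g * w * g) * g = (g * g) * w * (g * g) := by group
                _ = w := by rw [hgg, one_mul, mul_one]
            rw [e2] at e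
            rw [e]; exact inv_mem hw
    refine ⟨by rw [hnorm X hX le_rfl, hnorm K le_rfl hX], s, D.os, D.sK, D.inverts, ?_⟩
    rw [hnorm K le_rfl hX]
    refine le_antisymm (fun g hg' => ?_) (sup_le (fun a ha => mem_cent.2 (D.KC a ha)) ?_)
    · rcases D.cover g (mem_cent.1 hg') with h | h
      · exact Subgroup.mem_sup_left h
      · have := mul_mem (Subgroup.mem_sup_left (T := Subgroup.zpowers s) h)
          (Subgroup.mem_sup_right (S := K) (Subgroup.mem_zpowers s))
        simpa [mul_assoc, D.ss] using this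
    · rw [Subgroup.zpowers_le, mem_cent]; exact D.st

end Cfsg.Agent.Invol.BSW
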