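import Cfsg.Agent.Lib.Invol.BSW.Plus
import Cfsg.Agent.Lib.Invol.BSW.MinusMain

/-!
# The case of a self-centralizing four-group
-/

set_option autoImplicit false

namespace Cfsg.Agent.Invol.BSW

universe u

variable {G : Type u} [Group G] {t s : G} {K : Subgroup G}

theorem small_pair {a b : ℕ} (ha : 3 ≤ a) (hb : 3 ≤ b) (hao : Odd a) (hbo : Odd b) (hne : a ≠ b)
    (h : a * b < 2 * (a + b)) : (a = 3 ∧ b = 5) ∨ (a = 5 ∧ b = 3) := by
  obtain ⟨i, rfl⟩ := hao
  obtain ⟨j, rfl⟩ := hbo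
  have hi : i ≤ 2 := by nlinarith
  have hj : j ≤ 2 := by nlinarith
  interval_cases i <;> interval_cases j <;> omega

theorem Hyp.two_case [Finite G] (D : Hyp t s K) (hk : Nat.card K = 2) : Concl G := by
  classical
  haveI := Fintype.ofFinite G
  set n := (Subgroup.centralizer ({t} : Set G)).index with hn
  have hg : Nat.card G = 4 * n := by rw [D.card_eq, hk]
  have hn0 : 0 < n := by
    rcases Nat.eq_zero_or_pos n with h | h
    · rw [h, mul_zero] at hg; exact absurd hg Nat.card_pos.ne'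
    · exact h
  obtain ⟨e1, e2⟩ := D.others_eqs
  rw [← hn, hk] at e1 e2
  rw [hg] at e1
  norm_num at e1 e2
  set E := (others K).filter (fun y => 0 < F y) with hE
  have hmemE : ∀ y, y ∈ E ↔ y ≠ 1 ∧ ¬ ConjK K y ∧ 0 < F y := fun y => by
    simp [hE, mem_others, and_assoc]
  have hEle : E.card ≤ (others K).card := Finset.card_filter_le _ _
  have hsumE : ∑ y ∈ E, F y = ∑ y ∈ others K, F y :=
    Finset.sum_subset (Finset.filter_subset _ _) fun y hy hy' => by
      simpa [hE, hy] using hy'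
  -- the class of an inverted element
  let C : G → Finset G := fun y =>
    Finset.univ.filter fun z => z ≠ 1 ∧ ∃ g : G, g⁻¹ * z * g ∈ Subgroup.centralizer ({y} : Set G)
  have hC : ∀ y ∈ E, C y ⊆ E ∧ (∀ z ∈ C y, F z = F y) ∧
      (C y).card * F y = 2 * n * (F y - 1) ∧ Odd (F y) ∧ 3 ≤ F y ∧ y ∈ C y ∧ F y ∣ n := by
    intro y hy
    obtain ⟨hy1, hyK, hyF⟩ := (hmemE y).1 hy
    set A := Subgroup.centralizer ({y} : Set G) with hA
    have hFA : F y = Nat.card A := D.F_eq_cent hy1 hyK hyF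
    have hin : ∀ z ∈ C y, ¬ ConjK K z ∧ F z = F y := by
      intro z hz
      obtain ⟨-, hz1, g, hg⟩ := Finset.mem_filter.1 hz
      have e : g⁻¹ * z * g = g⁻¹ * z * g⁻¹⁻¹ := by rw [inv_inv]
      have hne : g⁻¹ * z * g ≠ 1 := by rw [e]; exact fun h => hz1 (conj_eq_one_iff.1 h)
      obtain ⟨h1, h2, h3⟩ := D.cent_eq hy1 hyK hyF (mem_cent.1 hg) hne
      have h4 := D.F_eq_cent hne h1 h2
      rw [h3, ← hA, ← hFA] at h4
      rw [e, ConjK.conj_iff] at h1
      rw [e, F_conj] at h4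
      exact ⟨h1, h4⟩
    have hodd : Odd (F y) := hFA ▸ D.odd_cent hy1 hyK
    have h3 : 3 ≤ F y := by
      have : F y ≠ 1 := fun e => by
        rw [hFA, Subgroup.card_eq_one] at e
        have h5 : y ∈ A := mem_cent.2 rfl
        rw [e] at h5
        exact hy1 (Subgroup.mem_bot.1 h5)
      obtain ⟨r, hr⟩ := hodd
      omega
    refine ⟨fun z hz => ?_, fun z hz => (hin z hz).2, ?_, hodd, h3,
      Finset.mem_filter.2 ⟨Finset.mem_univ _, hy1, 1, by simp [mem_cent]⟩, ?_⟩
    · exact (hmemE z).2 ⟨(Finset.mem_filter.1 hz).2.1, (hin z hz).1, (hin z hz).2 ▸ hyF⟩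
    · have h := card_conj_union A (Subgroup.normalizer (A : Set G))
        (fun g hg' b hb => (Subgroup.mem_normalizer_iff.1 hg' _).2 (by simpa [mul_assoc] using hb))
        (fun g b hb hb1 hgb => D.ti_normalizer hy1 hyK hyF hb hb1 hgb)
      rw [show Nat.card {z : G // z ≠ 1 ∧ ∃ g : G, g⁻¹ * z * g ∈ A} = (C y).card by
        rw [Nat.card_eq_fintype_card, Fintype.card_subtype], hg, ← hFA] at h
      suffices hN : Nat.card (Subgroup.normalizer (A : Set G)) = 2 * F y by
        rw [hN] at h; linarith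
      obtain ⟨g₀, hinv⟩ := D.exists_inverted_by_t hyK hyF
      -- the normalizer is the extension by the inverting involution
      obtain ⟨u, hu, hui⟩ := (D.F_pos_iff_inverted hyK).1 hyF
      have hmem : ∀ a : A, ∀ v, v = (a : G) ∨ v = (a : G) * u →
          v ∈ Subgroup.normalizer (A : Set G) := by
        have huN : u ∈ Subgroup.normalizer (A : Set G) :=
          D.ti_normalizer hy1 hyK hyF (mem_cent.2 rfl) hy1 (by
            rw [hui]; exact inv_mem (mem_cent.2 rfl))
        rintro a v (rfl | rfl)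
        · exact Subgroup.le_normalizer a.2
        · exact mul_mem (Subgroup.le_normalizer a.2) huN
      let f : A ⊕ A → Subgroup.normalizer (A : Set G) :=
        Sum.elim (fun a => ⟨_, hmem a _ (Or.inl rfl)⟩) (fun a => ⟨_, hmem a _ (Or.inr rfl)⟩)
      have huA : u ∉ A := fun h => D.no_two_cent hy1 hyK hu (mem_cent.1 h)
      have hf : Function.Bijective f := by
        refine ⟨?_, ?_⟩
        · rintro (a | a) (b | b) h <;> have h' := congrArg Subtype.val h <;>
            simp only [f, Sum.elim_inl, Sum.elim_inr] at h'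
          · exact congrArg _ (Subtype.ext h')
          · exact absurd (show u ∈ A by
              rw [show u = (b : G)⁻¹ * a by rw [h']; group]; exact mul_mem (inv_mem b.2) a.2) huA
          · exact absurd (show u ∈ A by
              rw [show u = (a : G)⁻¹ * b by rw [← h']; group]; exact mul_mem (inv_mem a.2) b.2) huA
          · exact congrArg _ (Subtype.ext (mul_right_cancel h'))
        · rintro ⟨v, hv⟩
          set y' := g₀⁻¹ * y * g₀ with hy'
          have hy'1 : y' ≠ 1 := by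
            rw [hy', show g₀⁻¹ * y * g₀ = g₀⁻¹ * y * g₀⁻¹⁻¹ by group]
            exact fun h => hy1 (conj_eq_one_iff.1 h)
          have hy'K : ¬ ConjK K y' := by
            rw [hy', show g₀⁻¹ * y * g₀ = g₀⁻¹ * y * g₀⁻¹⁻¹ by group, ConjK.conj_iff]; exact hyK
          have hback : g₀ * y' * g₀⁻¹ = y := by rw [hy']; group
          have hiff : ∀ w, w ∈ A ↔ g₀⁻¹ * w * g₀ ∈ Subgroup.centralizer ({y'} : Set G) := by
            intro w
            have h := conj_mem_cent_iff (y := y') g₀ (g₀⁻¹ * w * g₀)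
            rw [hback, show g₀ * (g₀⁻¹ * w * g₀) * g₀⁻¹ = w by group] at h
            exact h
          have hv' : g₀⁻¹ * v * g₀ ∈
              Subgroup.normalizer (Subgroup.centralizer ({y'} : Set G) : Set G) := by
            refine Subgroup.mem_normalizer_iff.2 fun w => ?_
            have h := Subgroup.mem_normalizer_iff.1 hv (g₀ * w * g₀⁻¹)
            rw [hiff, hiff] at h
            simpa [mul_assoc] using h
          obtain ⟨a, ha, hat⟩ := D.normalizer_decomp hy'1 hy'K hinv hv'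
          have hK2 : a * (g₀⁻¹ * v * g₀) ∈ K :=
            D.normalizer_inter hy'1 hy'K hinv (mul_mem (Subgroup.le_normalizer ha) hv') hat
          have hsq : (a * (g₀⁻¹ * v * g₀)) ^ 2 = 1 := by
            rw [← hk]
            exact congrArg Subtype.val (pow_card_eq_one' (x := (⟨_, hK2⟩ : K)))
          have hut : ∃ b ∈ A, g₀ * t * g₀⁻¹ = b * u := by
            refine ⟨g₀ * t * g₀⁻¹ * u, ?_, by
              rw [mul_assoc (g₀ * t * g₀⁻¹), (orderOf_two_iff.1 hu).1, mul_one]⟩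
            rw [hA, mem_cent]
            have h1 : g₀ * t * g₀⁻¹ * y⁻¹ = y * (g₀ * t * g₀⁻¹) := by
              have h2 : t * y'⁻¹ = y' * t := by
                rw [← hinv, inv_self_of_two D.ot, ← mul_assoc, ← mul_assoc, D.tt, one_mul]
              calc g₀ * t * g₀⁻¹ * y⁻¹ = g₀ * (t * y'⁻¹) * g₀⁻¹ := by rw [hy']; group
                _ = g₀ * (y' * t) * g₀⁻¹ := by rw [h2]
                _ = y * (g₀ * t * g₀⁻¹) := by rw [hy']; group
            have h3 : u * y = y⁻¹ * u := by rw [← hui]; group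
            calc g₀ * t * g₀⁻¹ * u * y = g₀ * t * g₀⁻¹ * (y⁻¹ * u) := by rw [mul_assoc, h3]
              _ = y * (g₀ * t * g₀⁻¹ * u) := by rw [← mul_assoc, h1]; group
          obtain ⟨b, hb, hbu⟩ := hut
          have haA : g₀ * a * g₀⁻¹ ∈ A := (hiff _).2 (by simpa [mul_assoc] using ha)
          by_cases h1 : a * (g₀⁻¹ * v * g₀) = 1
          · refine ⟨Sum.inl ⟨(g₀ * a * g₀⁻¹)⁻¹, inv_mem haA⟩, Subtype.ext ?_⟩
            simp only [f, Sum.elim_inl]
            calc (g₀ * a * g₀⁻¹)⁻¹ = g₀ * (a⁻¹ * (a * (g₀⁻¹ * v * g₀))) * g₀⁻¹ := by rw [h1]; group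
              _ = v := by group
          · have e := D.two_eq hK2 (orderOf_eq_prime hsq h1)
            refine ⟨Sum.inr ⟨(g₀ * a * g₀⁻¹)⁻¹ * b, mul_mem (inv_mem haA) hb⟩, Subtype.ext ?_⟩
            simp only [f, Sum.elim_inr]
            calc (g₀ * a * g₀⁻¹)⁻¹ * b * u = g₀ * a⁻¹ * g₀⁻¹ * (g₀ * t * g₀⁻¹) := by
                  rw [hbu]; group
              _ = g₀ * a⁻¹ * g₀⁻¹ * (g₀ * (a * (g₀⁻¹ * v * g₀)) * g₀⁻¹) := by rw [e]
              _ = v := by group
      rw [← Nat.card_eq_of_bijective f hf, Nat.card_sum, ← hFA]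
      omega
    · refine Nat.Coprime.dvd_of_dvd_mul_left (m := 4) ?_ ?_
      · exact ((Nat.coprime_two_right.2 hodd).mul_right (Nat.coprime_two_right.2 hodd) : _)
      · rw [hFA, ← hg]; exact Subgroup.card_subgroup_dvd_card _
  -- classes are equal or disjoint
  have hdisj : ∀ y ∈ E, ∀ z ∈ E, z ∉ C y → Disjoint (C y) (C z) ∧ F y ≠ F z := by
    intro y hy z hz hzC
    obtain ⟨hy1, hyK, hyF⟩ := (hmemE y).1 hy
    obtain ⟨hz1, hzK, hzF⟩ := (hmemE z).1 hz
    have hne : F y ≠ F z := by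
      intro e
      obtain ⟨p, hp, hpd⟩ := Nat.exists_prime_and_dvd (n := F y) (by
        have := (hC y hy).2.2.2.2.1; omega)
      haveI := Fact.mk hp
      exact hzC (Finset.mem_filter.2 ⟨Finset.mem_univ _, hz1,
        D.cent_conj hy1 hyK hyF hz1 hzK hzF (D.F_eq_cent hy1 hyK hyF ▸ hpd)
          (D.F_eq_cent hz1 hzK hzF ▸ e ▸ hpd)⟩)
    refine ⟨Finset.disjoint_left.2 fun w hw hw' => hne ?_, hne⟩
    rw [← (hC y hy).2.1 w hw, (hC z hz).2.1 w hw']
  have hpair : ∀ y ∈ E, ∀ z ∈ E, z ∉ C y →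
      (F y = 3 ∧ F z = 5) ∨ (F y = 5 ∧ F z = 3) := by
    intro y hy z hz hzC
    obtain ⟨hsy, -, hcy, hoy, h3y, -, -⟩ := hC y hy
    obtain ⟨hsz, -, hcz, hoz, h3z, -, -⟩ := hC z hz
    obtain ⟨hd, hne⟩ := hdisj y hy z hz hzC
    have hle : (C y).card + (C z).card ≤ E.card := by
      rw [← Finset.card_union_of_disjoint hd]
      exact Finset.card_le_card (Finset.union_subset hsy hsz)
    refine small_pair h3y h3z hoy hoz hne ?_
    obtain ⟨a, ha⟩ : ∃ a, F y = a + 1 := ⟨F y - 1, by omega⟩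
    obtain ⟨b, hb⟩ : ∃ b, F z = b + 1 := ⟨F z - 1, by omega⟩
    rw [ha, Nat.add_sub_cancel] at hcy
    rw [hb, Nat.add_sub_cancel] at hcz
    rw [ha, hb]
    have hlt : (C y).card + (C z).card < 3 * n := by omega
    have := Nat.mul_lt_mul_of_pos_right hlt (show 0 < (a + 1) * (b + 1) by positivity)
    have e3 : ((C y).card + (C z).card) * ((a + 1) * (b + 1)) =
        2 * n * a * (b + 1) + 2 * n * b * (a + 1) := by
      rw [← hcy, ← hcz]; ring
    nlinarith
  rcases E.eq_empty_or_nonempty with hEe | ⟨y, hy⟩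
  · -- three involutions
    rw [hEe, Finset.sum_empty] at hsumE
    rw [← hsumE, add_zero] at e2
    have hn3 : n = 3 := by nlinarith
    exact D.minus_case (by rw [← hn, hn3, hk]) fun _ _ _ => by rw [hk]; exact one_dvd _
  -- two classes
  obtain ⟨hsy, hFy, hcy, hoy, h3y, hyy, hny⟩ := hC y hy
  obtain ⟨z, hz, hzC⟩ : ∃ z ∈ E, z ∉ C y := by
    by_contra hall
    push Not at hall
    have hEq : E = C y := Finset.Subset.antisymm hall hsy
    rw [← hsumE, hEq, Finset.sum_const_nat hFy, hcy] at e2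
    obtain ⟨a, ha⟩ : ∃ a, F y = a + 1 := ⟨F y - 1, by omega⟩
    rw [ha, Nat.add_sub_cancel] at e2
    have h1 : n = 2 * a + 3 := by
      refine Nat.eq_of_mul_eq_mul_left hn0 ?_
      nlinarith
    rw [ha, h1] at hny
    have h2 : a + 1 ∣ 1 := (Nat.dvd_add_right (dvd_mul_left (a + 1) 2)).1
      (show a + 1 ∣ 2 * (a + 1) + 1 from hny)
    have := Nat.le_of_dvd one_pos h2
    omega
  obtain ⟨hsz, hFz, hcz, hoz, h3z, hzz, -⟩ := hC z hz
  obtain ⟨hd, hne⟩ := hdisj y hy z hz hzC
  have hEq : E = C y ∪ C z := by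
    refine Finset.Subset.antisymm (fun w hw => ?_) (Finset.union_subset hsy hsz)
    by_contra hc
    rw [Finset.mem_union] at hc
    push Not at hc
    have h1 := hpair y hy w hw hc.1
    have h2 := hpair z hz w hw hc.2
    omega
  have hp := hpair y hy z hz hzC
  rw [← hsumE, hEq, Finset.sum_union hd, Finset.sum_const_nat hFy, Finset.sum_const_nat hFz,
    hcy, hcz] at e2
  have hn15 : n = 15 := by
    refine Nat.eq_of_mul_eq_mul_left hn0 ?_
    rcases hp with ⟨h1, h2⟩ | ⟨h1, h2⟩ <;> rw [h1, h2] at e2 <;> norm_num at e2 <;> nlinarith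
  have hEall : E = others K := by
    refine Finset.eq_of_subset_of_card_le (Finset.filter_subset _ _) ?_
    rw [hn15] at e1 hcy hcz
    rw [hEq, Finset.card_union_of_disjoint hd]
    rcases hp with ⟨h1, h2⟩ | ⟨h1, h2⟩ <;> rw [h1] at hcy <;> rw [h2] at hcz <;> omega
  refine D.plus_case (by rw [← hn, hn15, hk]) fun w hw1 hwK => ?_
  have hw : w ∈ E := hEall ▸ mem_others.2 ⟨hw1, hwK⟩
  obtain ⟨r, hr⟩ := (hC w hw).2.2.2.1
  exact ⟨((hmemE w).1 hw).2.2, r, by rw [hk, hr]; ring⟩

end Cfsg.Agent.Invol.BSW
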